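import Groth.Agent.Lib.FlatDesc71.Alg
import Mathlib.FieldTheory.Minpoly.IsIntegrallyClosed
import Mathlib.RingTheory.Norm.Transitivity
import Mathlib.RingTheory.Ideal.GoingUp
import Mathlib.RingTheory.Nakayama

/-!
# Algebra for descending Cartier divisors along finite maps
-/

set_option autoImplicit false
set_option linter.style.haveILetI false
universe u

namespace Groth.Agent.H70.DescAlg

open Polynomial

/-- A substitute for the norm of an integral element. -/
theorem exists_norm {R B : Type u} [CommRing R] [IsDomain R] [IsIntegrallyClosed R]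
    [CommRing B] [IsDomain B] [Algebra R B] [Module.IsTorsionFree R B] [Algebra.IsIntegral R B] (f : B) :
    ∃ g : R, (∀ Q : Ideal B, Q.IsPrime → f ∈ Q → algebraMap R B g ∈ Q) ∧
      ∀ q : Ideal R, q.IsPrime → g ∈ q →
        ∃ Q : Ideal B, Q.IsPrime ∧ Q.comap (algebraMap R B) = q ∧ f ∈ Q := by
  have hf : IsIntegral R f := Algebra.IsIntegral.isIntegral f
  refine ⟨(minpoly R f).coeff 0, fun Q _ hfQ => ?_, fun q hq hg => ?_⟩
  · have h : aeval f (minpoly R f) = 0 := minpoly.aeval R f
    rw [← divX_mul_X_add (minpoly R f), map_add, map_mul, aeval_X, aeval_C] at h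
    rw [eq_neg_of_add_eq_zero_right h]
    exact neg_mem (Ideal.mul_mem_left _ _ hfQ)
  by_contra hcon
  push Not at hcon
  obtain ⟨r, hr, hrq⟩ : ∃ r, algebraMap R B r ∈ Ideal.span {f} ∧ r ∉ q := by
    by_contra h
    push Not at h
    obtain ⟨Q, hQI, hQ, hQq⟩ := Ideal.exists_ideal_over_prime_of_isIntegral q (Ideal.span {f}) h
    exact hcon Q hQ hQq (hQI (Ideal.mem_span_singleton_self f))
  obtain ⟨b, hb⟩ := Ideal.mem_span_singleton'.1 hr
  let K := FractionRing R
  let L := FractionRing B
  haveI : FaithfulSMul R L := (faithfulSMul_iff_algebraMap_injective R L).2 (by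
    rw [IsScalarTower.algebraMap_eq R B L]
    exact (IsFractionRing.injective B L).comp
      (FaithfulSMul.algebraMap_injective R B))
  letI : Algebra K L := FractionRing.liftAlgebra R L
  set x : L := algebraMap B L f with hx
  have hxint : IsIntegral R x := hf.map (IsScalarTower.toAlgHom R B L)
  have hxK : IsIntegral K x := hxint.tower_top
  haveI : FiniteDimensional K (IntermediateField.adjoin K ({x} : Set L)) :=
    IntermediateField.adjoin.finiteDimensional hxK
  set F := IntermediateField.adjoin K ({x} : Set L)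
  haveI : IsScalarTower R F L := IsScalarTower.of_algebraMap_eq fun z => rfl
  have hrx : algebraMap B L b * x = algebraMap R L r := by
    rw [hx, ← map_mul, hb, ← IsScalarTower.algebraMap_apply]
  rcases eq_or_ne x 0 with h0 | h0
  · refine hrq ?_
    have : algebraMap R L r = 0 := by rw [← hrx, h0, mul_zero]
    rw [(map_eq_zero_iff _ (FaithfulSMul.algebraMap_injective R L)).1 this]
    exact zero_mem q
  set γ : F := IntermediateField.AdjoinSimple.gen K x
  set β : F := algebraMap R F r / γ
  have hβ : (β : L) = algebraMap B L b := by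
    show (algebraMap R F r : L) / x = _
    rw [div_eq_iff h0, hrx]
    rfl
  have hβint : IsIntegral R β := by
    refine (isIntegral_algebraMap_iff (algebraMap F L).injective).1 ?_
    show IsIntegral R (β : L)
    rw [hβ]
    exact (Algebra.IsIntegral.isIntegral b).map (IsScalarTower.toAlgHom R B L)
  obtain ⟨nb, hnb⟩ := IsIntegrallyClosed.algebraMap_eq_of_integral
    (Algebra.isIntegral_norm K hβint)
  have hprod : γ * β = algebraMap R F r := by
    rw [mul_comm]
    exact div_mul_cancel₀ _ (fun e => h0 (congrArg Subtype.val e))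
  have hn := congrArg (Algebra.norm K) hprod
  rw [map_mul, ← hnb, IsScalarTower.algebraMap_apply R K F, Algebra.norm_algebraMap] at hn
  have hγ : Algebra.norm K γ =
      (-1) ^ (minpoly K x).natDegree * algebraMap R K ((minpoly R f).coeff 0) := by
    have h := Algebra.PowerBasis.norm_gen_eq_coeff_zero_minpoly
      (IntermediateField.adjoin.powerBasis hxK)
    simp only [IntermediateField.adjoin.powerBasis_gen, IntermediateField.adjoin.powerBasis_dim,
      IntermediateField.minpoly_gen] at h
    rw [h, ← coeff_map]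
    congr 2
    rw [minpoly.isIntegrallyClosed_eq_field_fractions' K hxint,
      minpoly.algebraMap_eq (IsFractionRing.injective B L)]
  rw [hγ, ← map_pow, ← (algebraMap R K).map_one, ← map_neg, ← map_pow, ← map_mul, ← map_mul] at hn
  have h2 := IsFractionRing.injective R K hn
  exact hrq (Ideal.IsPrime.mem_of_pow_mem hq _
    (h2 ▸ Ideal.mul_mem_right _ _ (Ideal.mul_mem_left _ _ hg)))

/-- One element generating an ideal at finitely many incomparable primes. -/
theorem exists_gen {B : Type u} [CommRing B] (I : Ideal B) (S : Finset (Ideal B))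
    (hS : ∀ m ∈ S, m.IsPrime) (hinc : ∀ m ∈ S, ∀ m' ∈ S, m ≤ m' → m = m')
    (hloc : ∀ m ∈ S, ∃ a ∈ I, ∀ z ∈ I, ∃ s ∉ m, ∃ c, s * z = c * a) :
    ∃ f ∈ I, ∀ m ∈ S, ∀ z ∈ I, ∃ s ∉ m, ∃ c, s * z = c * f := by
  classical
  choose! a ha hz using hloc
  have hw : ∀ m ∈ S, ∃ e, e ∉ m ∧ ∀ m' ∈ S, m' ≠ m → e ∈ m' := by
    intro m hm
    haveI := hS m hm
    have : ¬ (S.erase m).inf id ≤ m := by
      intro h
      obtain ⟨m', hm', hle⟩ := (Ideal.IsPrime.inf_le' inferInstance).1 h
      obtain ⟨hne, hm'S⟩ := Finset.mem_erase.1 hm'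
      exact hne (hinc m' hm'S m hm hle)
    obtain ⟨e, he, hem⟩ := SetLike.not_le_iff_exists.1 this
    exact ⟨e, hem, fun m' hm' hne =>
      (Finset.inf_le (f := id) (Finset.mem_erase.2 ⟨hne, hm'⟩)) he⟩
  choose! e he he' using hw
  refine ⟨∑ m ∈ S, e m * a m, Ideal.sum_mem _ fun m hm => Ideal.mul_mem_left _ _ (ha m hm), ?_⟩
  intro m hm z hzI
  haveI := hS m hm
  -- every `a m'` is a multiple of `a m` near `m`
  choose! s hs c hc using fun m' (hm' : m' ∈ S) => hz m hm (a m') (ha m' hm')
  set t := ∏ m' ∈ S, s m' with ht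
  have htm : t ∉ m := fun h => by
    obtain ⟨m', hm', h'⟩ := (Ideal.IsPrime.prod_mem_iff).1 h
    exact hs m' hm' h'
  set C := ∑ m' ∈ S.erase m, (∏ j ∈ S.erase m', s j) * (c m' * e m')
  have hCm : C ∈ m := Ideal.sum_mem _ fun m' hm' => by
    obtain ⟨hne, hm'S⟩ := Finset.mem_erase.1 hm'
    exact Ideal.mul_mem_left _ _ (Ideal.mul_mem_left _ _ (he' m' hm'S m hm (Ne.symm hne)))
  have heq : t * (∑ m' ∈ S, e m' * a m') = (t * e m + C) * a m := by
    rw [← Finset.add_sum_erase _ _ hm, mul_add, add_mul, Finset.mul_sum, Finset.sum_mul, mul_assoc]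
    congr 1
    refine Finset.sum_congr rfl fun m' hm' => ?_
    obtain ⟨-, hm'S⟩ := Finset.mem_erase.1 hm'
    rw [ht, ← Finset.mul_prod_erase S s hm'S]
    have := hc m' hm'S
    linear_combination ((∏ j ∈ S.erase m', s j) * e m') * this
  obtain ⟨s₀, hs₀, c₀, hc₀⟩ := hz m hm z hzI
  refine ⟨(t * e m + C) * s₀, ?_, c₀ * t, ?_⟩
  · intro h
    rcases (‹m.IsPrime›).mem_or_mem h with h | h
    · exact ((‹m.IsPrime›).mem_or_mem ((Ideal.add_mem_iff_left _ hCm).1 h)).elim htm (he m hm)
    · exact hs₀ h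
  · linear_combination (t * e m + C) * hc₀ - c₀ * heq

/-- Divisibility in a normal Noetherian domain is checked in codimension one. -/
theorem dvd_of_codimOne {R : Type u} [CommRing R] [IsDomain R] [IsNoetherianRing R]
    [IsIntegrallyClosed R] {a b : R} (_hb : b ≠ 0)
    (h : ∀ p : Ideal R, p.IsPrime → p.height ≤ 1 → b ∈ p → ∃ u ∉ p, b ∣ u * a) : b ∣ a := by
  by_contra hba
  have hne : (Ideal.Quotient.mk (Ideal.span {b}) a) ≠ 0 := by
    rwa [Ne, Ideal.Quotient.eq_zero_iff_mem, Ideal.mem_span_singleton]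
  obtain ⟨P, hP, hle⟩ := exists_le_isAssociatedPrime_of_isNoetherianRing R _ hne
  haveI := hP.isPrime
  have hmem : ∀ z, b ∣ z * a → z ∈ P := fun z hz => hle (by
    rw [Submodule.mem_colon_singleton, Submodule.mem_bot, Algebra.smul_def,
      Ideal.Quotient.algebraMap_eq, ← map_mul, Ideal.Quotient.eq_zero_iff_mem,
      Ideal.mem_span_singleton]
    exact hz)
  have hht := Groth.Agent.Lib.FlatDesc71.height_le_one (R := R) (fun p _ =>
    ⟨inferInstance, isIntegrallyClosed_of_isLocalization _ p.primeCompl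
      p.primeCompl_le_nonZeroDivisors⟩) hP
  obtain ⟨u, hu, hdvd⟩ := h P inferInstance hht (hmem b (dvd_mul_right b a))
  exact hu (hmem u hdvd)

end Groth.Agent.H70.DescAlg
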