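import Groth.Agent.H46.ZeroLocusEquidim
import Mathlib.AlgebraicGeometry.ProjectiveSpectrum.Basic

/-!
# Cutting a multisection out of a family in `Proj`
-/

set_option autoImplicit false
set_option linter.style.haveILetI false
universe u

open CategoryTheory AlgebraicGeometry Topology
open TopologicalSpace (Closeds NoetherianSpace)
open Groth.Agent.H46 Groth.Agent.H46.FibreTrdeg Groth.Agent.H46.DimData
open Groth.Agent.Lib.Cyc

namespace Groth.Agent.H70.DescCut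

theorem exists_max {X : Type u} [TopologicalSpace X] [NoetherianSpace X] [QuasiSober X]
    {C : Set X} (hC : IsClosed C) :
    ∃ M : Set X, M.Finite ∧ M ⊆ C ∧ (∀ p ∈ M, ∀ w ∈ C, w ⤳ p → p ⤳ w) ∧
      ∀ x ∈ C, ∃ p ∈ M, p ⤳ x := by
  obtain ⟨S, hS, hSc, hSi, hSe⟩ := NoetherianSpace.exists_finite_set_isClosed_irreducible hC
  have hgen : ∀ t ∈ S, ∃ p, IsGenericPoint p t := fun t ht => QuasiSober.sober (hSi t ht) (hSc t ht)
  rcases S.eq_empty_or_nonempty with rfl | ⟨t₀, ht₀⟩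
  · exact ⟨∅, Set.finite_empty, Set.empty_subset _, by simp, fun x hx => by simp [hSe] at hx⟩
  haveI : Nonempty X := ⟨(hgen t₀ ht₀).choose⟩
  choose! g hg using hgen
  refine ⟨g '' {t ∈ S | Maximal (· ∈ S) t}, (hS.subset fun t ht => ht.1).image g, ?_, ?_, ?_⟩
  · rintro _ ⟨t, ht, rfl⟩
    exact hSe.ge ⟨t, ht.1, (hg t ht.1).mem⟩
  · rintro _ ⟨t, ht, rfl⟩ w hw hwp
    rw [hSe] at hw
    obtain ⟨t', ht', hwt'⟩ := hw
    have hle : t ⊆ t' := fun z hz =>
      ((hwp.trans ((hg t ht.1).specializes hz))).mem_closed (hSc t' ht') hwt'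
    obtain rfl : t' = t := (ht.2.eq_of_le ht' hle).symm
    exact (hg t' ht').specializes hwt'
  · intro x hx
    rw [hSe] at hx
    obtain ⟨t, ht, hxt⟩ := hx
    obtain ⟨t', hle, ht'⟩ := hS.exists_le_maximal ht
    exact ⟨g t', ⟨t', ⟨ht'.1, ht'⟩, rfl⟩, (hg t' ht'.1).specializes (hle hxt)⟩

section Proj

variable {A σ : Type u} [CommRing A] [SetLike σ A] [AddSubgroupClass σ A]
  (𝒜 : ℕ → σ) [GradedRing 𝒜]

theorem exists_homogeneous_notMem (I : HomogeneousIdeal 𝒜) (P : ProjectiveSpectrum 𝒜)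
    (h : ¬ I.toIdeal ≤ P.asHomogeneousIdeal.toIdeal) :
    ∃ (m : ℕ) (a : A), 0 < m ∧ a ∈ 𝒜 m ∧ a ∈ I.toIdeal ∧ a ∉ P.asHomogeneousIdeal.toIdeal := by
  classical
  have aux : ∀ J : Ideal A, J.IsHomogeneous 𝒜 → ¬ J ≤ P.asHomogeneousIdeal.toIdeal →
      ∃ (m : ℕ) (a : A), a ∈ 𝒜 m ∧ a ∈ J ∧ a ∉ P.asHomogeneousIdeal.toIdeal := by
    intro J hJ hle
    obtain ⟨x, hxJ, hx⟩ := SetLike.not_le_iff_exists.mp hle
    by_contra! hc
    apply hx
    rw [← DirectSum.sum_support_decompose 𝒜 x]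
    exact Ideal.sum_mem _ fun i _ => hc i _ (SetLike.coe_mem _) (hJ i hxJ)
  obtain ⟨m, a, ha, haI, hax⟩ := aux _ I.isHomogeneous h
  by_cases hm : 0 < m
  · exact ⟨m, a, hm, ha, haI, hax⟩
  obtain ⟨x, hxirr, hx⟩ := SetLike.not_le_iff_exists.mp P.not_irrelevant_le
  obtain ⟨i, hi0, hi⟩ : ∃ i, 0 < i ∧
      (DirectSum.decompose 𝒜 x i : A) ∉ P.asHomogeneousIdeal.toIdeal := by
    by_contra! hc
    apply hx
    show x ∈ P.asHomogeneousIdeal.toIdeal
    rw [← DirectSum.sum_support_decompose 𝒜 x]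
    refine Ideal.sum_mem _ fun i _ => ?_
    rcases Nat.eq_zero_or_pos i with rfl | hi
    · have : (DirectSum.decompose 𝒜 x 0 : A) = 0 := hxirr
      rw [this]; exact zero_mem _
    · exact hc i hi
  exact ⟨m + i, a * (DirectSum.decompose 𝒜 x i : A), by omega,
    SetLike.mul_mem_graded ha (SetLike.coe_mem _),
    Ideal.mul_mem_right _ _ haI, fun hh => (P.isPrime.mem_or_mem hh).elim hax hi⟩

theorem specializes_iff (x t : Proj 𝒜) :
    x ⤳ t ↔ x.asHomogeneousIdeal.toIdeal ≤ t.asHomogeneousIdeal.toIdeal :=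
  specializes_iff_mem_closure.trans (ProjectiveSpectrum.le_iff_mem_closure 𝒜 x t).symm

/-- Homogeneous prime avoidance through a given point. -/
theorem exists_avoid (x : Proj 𝒜) (T : Finset (Proj 𝒜)) (hT : ∀ t ∈ T, ¬ x ⤳ t)
    (hinc : ∀ t ∈ T, ∀ t' ∈ T, t ⤳ t' → t = t') :
    ∃ (m : ℕ) (f : A), 0 < m ∧ f ∈ 𝒜 m ∧ f ∈ x.asHomogeneousIdeal.toIdeal ∧
      ∀ t ∈ T, f ∉ t.asHomogeneousIdeal.toIdeal := by
  classical
  induction T using Finset.induction with
  | empty => exact ⟨1, 0, one_pos, zero_mem _, zero_mem _, by simp⟩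
  | insert t T htT ih =>
  obtain ⟨m, f, hm, hf, hfx, hfT⟩ := ih (fun y hy => hT y (Finset.mem_insert_of_mem hy))
    (fun a ha b hb => hinc a (Finset.mem_insert_of_mem ha) b (Finset.mem_insert_of_mem hb))
  by_cases hft : f ∈ t.asHomogeneousIdeal.toIdeal
  swap
  · exact ⟨m, f, hm, hf, hfx, fun y hy => (Finset.mem_insert.1 hy).elim (fun e => e ▸ hft) (hfT y)⟩
  let J : HomogeneousIdeal 𝒜 := x.asHomogeneousIdeal ⊓ T.inf fun y => y.asHomogeneousIdeal
  have hJ : ¬ J.toIdeal ≤ t.asHomogeneousIdeal.toIdeal := by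
    intro hle
    rw [show J.toIdeal = x.asHomogeneousIdeal.toIdeal ⊓
      (T.inf fun y => y.asHomogeneousIdeal).toIdeal from HomogeneousIdeal.toIdeal_inf _ _] at hle
    rcases t.isPrime.inf_le.mp hle with h | h
    · exact hT t (Finset.mem_insert_self _ _) ((specializes_iff 𝒜 x t).2 h)
    · rw [show (T.inf fun y => y.asHomogeneousIdeal).toIdeal =
        T.inf fun y => y.asHomogeneousIdeal.toIdeal from
        map_finset_inf ({ toFun := fun J => J.toIdeal
                          map_inf' := fun _ _ => HomogeneousIdeal.toIdeal_inf _ _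
                          map_top' := HomogeneousIdeal.toIdeal_top } :
          InfTopHom (HomogeneousIdeal 𝒜) (Ideal A)) _ _, t.isPrime.inf_le'] at h
      obtain ⟨y, hy, hyt⟩ := h
      exact htT ((hinc y (Finset.mem_insert_of_mem hy) t (Finset.mem_insert_self _ _)
        ((specializes_iff 𝒜 y t).2 hyt)) ▸ hy)
  obtain ⟨n, g, hn, hg, hgJ, hgt⟩ := exists_homogeneous_notMem 𝒜 J t hJ
  have hgx : g ∈ x.asHomogeneousIdeal.toIdeal := (inf_le_left : J ≤ _) hgJ
  refine ⟨m * n, f ^ n + g ^ m, Nat.mul_pos hm hn, ?_, ?_, fun y hy => ?_⟩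
  · refine add_mem ?_ ?_
    · simpa [smul_eq_mul, mul_comm] using SetLike.pow_mem_graded n hf
    · simpa [smul_eq_mul, mul_comm] using SetLike.pow_mem_graded m hg
  · exact add_mem (Ideal.pow_mem_of_mem _ hfx _ hn) (Ideal.pow_mem_of_mem _ hgx _ hm)
  · intro hmem
    rcases Finset.mem_insert.1 hy with rfl | hy'
    · exact hgt (y.isPrime.mem_of_pow_mem _
        ((Ideal.add_mem_iff_right _ (Ideal.pow_mem_of_mem _ hft _ hn)).mp hmem))
    · have hgy : g ∈ y.asHomogeneousIdeal.toIdeal :=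
        ((inf_le_right : J ≤ _).trans (Finset.inf_le hy')) hgJ
      exact hfT y hy' (y.isPrime.mem_of_pow_mem _
        ((Ideal.add_mem_iff_left _ (Ideal.pow_mem_of_mem _ hgy _ hm)).mp hmem))

variable {S : Scheme.{u}} [IsIntegral S] [IsLocallyNoetherian S] (f : Proj 𝒜 ⟶ S)
  [LocallyOfFiniteType f] [NoetherianSpace ↥(Proj 𝒜)]

/-- A family of relative dimension `≤ e` at `y` with generic point `ξ`. -/
def Good (y : S) (e : ℕ) (ξ : Proj 𝒜) : Prop :=
  f ξ = genericPoint S ∧ trd f ξ = e ∧ (∃ x, ξ ⤳ x ∧ f x = y) ∧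
    ∀ z, ξ ⤳ z → f z = y → trd f z ≤ e

omit [IsLocallyNoetherian S] in
theorem eq_generic {v : S} (hv : DimFun.IsMaxPt v) : v = genericPoint S :=
  (hv _ (genericPoint_specializes v)).symm

theorem step {y : S} {e : ℕ} {ξ : Proj 𝒜} (hξ : Good 𝒜 f y e ξ) {x : Proj 𝒜} (hx : ξ ⤳ x)
    (hxy : f x = y) (hlt : trd f x < e) : ∃ ξ', Good 𝒜 f y (e - 1) ξ' := by
  classical
  obtain ⟨hξη, hξe, -, hup⟩ := hξ
  -- the points of the fibre of maximal degree
  obtain ⟨M, hMfin, hMC, hMmax, hMcov⟩ :=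
    exists_max (C := closure {ξ} ∩ f ⁻¹' closure {y})
      (isClosed_closure.inter (isClosed_closure.preimage f.continuous))
  have hT : {t | ξ ⤳ t ∧ f t = y ∧ trd f t = e} ⊆ M := by
    rintro t ⟨ht, hty, hte⟩
    obtain ⟨p, hp, hpt⟩ := hMcov t ⟨ht.mem_closure, subset_closure hty⟩
    have hpmem : p ∈ closure {ξ} ∩ f ⁻¹' closure {y} := hMC hp
    have hpy : f p = y :=
      ((specializes_iff_mem_closure.2 hpmem.2).antisymm
        (hty ▸ hpt.map f.continuous)).symm.eq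
    exact (eq_of_trd_le f hpt (hpy.trans hty.symm)
      (hte ▸ hup p (specializes_iff_mem_closure.2 hpmem.1) hpy)) ▸ hp
  set T := (hMfin.subset hT).toFinset with hTdef
  have hmemT : ∀ t, t ∈ T ↔ ξ ⤳ t ∧ f t = y ∧ trd f t = e := fun t => Set.Finite.mem_toFinset _
  obtain ⟨m, z, hm, hz, hzx, hzT⟩ := exists_avoid 𝒜 x T
    (fun t ht hxt => by
      obtain ⟨-, hty, hte⟩ := (hmemT t).1 ht
      have := trd_le f hxt (hxy.trans hty.symm)
      omega)
    (fun t ht t' ht' htt' => by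
      obtain ⟨-, hty, hte⟩ := (hmemT t).1 ht
      obtain ⟨-, hty', hte'⟩ := (hmemT t').1 ht'
      exact eq_of_trd_le f htt' (hty.trans hty'.symm) (le_of_eq (hte.trans hte'.symm)))
  -- a chart around `x`
  obtain ⟨d, w, hd, hw, -, hwx⟩ := exists_homogeneous_notMem 𝒜 (HomogeneousIdeal.irrelevant 𝒜) x
    x.not_irrelevant_le
  set a := Proj.awayι 𝒜 w hw hd with hadef
  have hra : ∀ q : Proj 𝒜, w ∉ q.asHomogeneousIdeal.toIdeal → q ∈ Set.range a := fun q hq => by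
    have : q ∈ (Proj.awayι 𝒜 w hw hd).opensRange := by rw [Proj.opensRange_awayι]; exact hq
    exact this
  have hξw : w ∉ ξ.asHomogeneousIdeal.toIdeal := fun h => hwx ((specializes_iff 𝒜 ξ x).1 hx h)
  obtain ⟨ξa, hξa⟩ := hra ξ hξw
  obtain ⟨xa, hxa⟩ := hra x hwx
  set ι := (Scheme.IdealSheafData.vanishingIdeal
    (⟨a ⁻¹' closure {ξ}, isClosed_closure.preimage a.continuous⟩ :
      Closeds ↥(Spec (.of (HomogeneousLocalization.Away 𝒜 w))))).subschemeι with hιdef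
  have hrι : Set.range ι = a ⁻¹' closure {ξ} := by
    rw [hιdef, Scheme.IdealSheafData.range_subschemeι,
      Scheme.IdealSheafData.coe_support_vanishingIdeal]
    rfl
  set h := ι ≫ a with hhdef
  haveI : LocallyOfFiniteType (h ≫ f) := inferInstance
  haveI : IsPreimmersion h := inferInstance
  have hmemh : ∀ v, ξ ⤳ h v := fun v => specializes_iff_mem_closure.2 (hrι.le ⟨v, rfl⟩)
  obtain ⟨ξ₁, hξ₁⟩ : ξa ∈ Set.range ι := hrι.ge (by show a ξa ∈ closure ({ξ} : Set ↥(Proj 𝒜)); rw [hξa]; exact subset_closure rfl)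
  obtain ⟨x₁, hx₁⟩ : xa ∈ Set.range ι := hrι.ge (by show a xa ∈ closure ({ξ} : Set ↥(Proj 𝒜)); rw [hxa]; exact hx.mem_closure)
  have hhξ : h ξ₁ = ξ := by rw [hhdef, Scheme.Hom.comp_apply, hξ₁, hξa]
  have hhx : h x₁ = x := by rw [hhdef, Scheme.Hom.comp_apply, hx₁, hxa]
  have hgenW : ∀ v, ξ₁ ⤳ v := fun v =>
    h.isEmbedding.isInducing.specializes_iff.1 (by rw [hhξ]; exact hmemh v)
  -- the equation
  set g := ι.appTop ((Scheme.ΓSpecIso _).inv
    (HomogeneousLocalization.Away.isLocalizationElem (f := w) hw hz)) with hgdef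
  have hgz : ∀ v, v ∈ Scheme.zeroLocus _ {g} ↔
      z ∈ (h v).asHomogeneousIdeal.toIdeal := by
    intro v
    rw [Scheme.zeroLocus_singleton, Set.mem_compl_iff, SetLike.mem_coe, hgdef,
      ← Scheme.Hom.preimage_basicOpen_top, basicOpen_eq_of_affine',
      Iso.inv_hom_id_apply]
    have he : (ι v) ∈ PrimeSpectrum.basicOpen
        (HomogeneousLocalization.Away.isLocalizationElem (f := w) hw hz) ↔
        z ∉ (a (ι v)).asHomogeneousIdeal.toIdeal :=
      ((SetLike.ext_iff.1 (Proj.awayι_preimage_basicOpen 𝒜 hw hd hz hm) (ι v))).symm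
    show ¬ (ι v) ∈ PrimeSpectrum.basicOpen
      (HomogeneousLocalization.Away.isLocalizationElem (f := w) hw hz) ↔ _
    rw [he, not_not]
    rfl
  set f' := h ≫ f with hf'
  have hf'x : f' x₁ = y := by rw [hf', Scheme.Hom.comp_apply, hhx, hxy]
  have hfe : fe f' x₁ = e := by
    obtain ⟨ζ, hζ, hζx, -, hζe⟩ := exists_fe_eq f' x₁
    obtain ⟨z', -, hz', hz'x, hle⟩ := exists_specializes_trd_le f' (hgenW x₁)
    refine le_antisymm ?_ ?_
    · rw [← hζe, hf', trd_comp]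
      exact hup _ (hmemh ζ) (hζ.trans hf'x)
    · have := hle.trans (trd_le_fe f' hz'x)
      rwa [hf', trd_comp, hhξ, hξe] at this
  have hequi : EGA43.IsEquidimAt f' x₁ := by
    refine isEquidimAt_of_components f' x₁ fun v hv _ => ?_
    obtain rfl : v = ξ₁ := (hv _ (hgenW v)).symm
    refine ⟨?_, by rw [hfe, hf', trd_comp, hhξ, hξe]⟩
    rw [hf', Scheme.Hom.comp_apply, hhξ, hξη]
    exact fun q hq => (hq.antisymm (genericPoint_specializes q)).eq
  have hmaxT : ∀ v, f' v = f' x₁ → IsMaxFib f' v →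
      v ∉ Scheme.zeroLocus _ {g} := by
    intro v hv hmv hvg
    refine hzT (h v) ((hmemT _).2 ⟨hmemh v, hv.trans hf'x, ?_⟩) ((hgz v).1 hvg)
    refine le_antisymm (hup _ (hmemh v) (hv.trans hf'x)) ?_
    have := trd_le_of_specializes f' (hgenW v) hmv
    rwa [hf', trd_comp, trd_comp, hhξ, hξe] at this
  haveI := LocallyOfFiniteType.isLocallyNoetherian f'
  have hx₁g : x₁ ∈ Scheme.zeroLocus _ {g} := (hgz x₁).2 (hhx.symm ▸ hzx)
  haveI : NoetherianSpace ↥(Scheme.IdealSheafData.vanishingIdeal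
      (⟨a ⁻¹' closure {ξ}, isClosed_closure.preimage a.continuous⟩ :
      Closeds ↥(Spec (.of (HomogeneousLocalization.Away 𝒜 w))))).subscheme :=
    h.isEmbedding.isInducing.noetherianSpace
  obtain ⟨M', -, hM'C, hM'max, hM'cov⟩ := exists_max (Scheme.zeroLocus_isClosed _
    {g})
  obtain ⟨p, hp, hpx⟩ := hM'cov x₁ hx₁g
  obtain ⟨hpη, hpe, -⟩ := ZeroLocusEquidim.component_data f' g hequi hmaxT (hM'C hp)
    (fun v hv hvp => (hvp.antisymm (hM'max p hp v hv hvp)).eq) hpx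
  rw [hfe, hf', trd_comp] at hpe
  refine ⟨h p, eq_generic hpη, by omega, ⟨x, hhx ▸ hpx.map h.continuous, hxy⟩, fun q hq hqy => ?_⟩
  have hξq : ξ ⤳ q := (hmemh p).trans hq
  have hzq : z ∈ q.asHomogeneousIdeal.toIdeal :=
    (specializes_iff 𝒜 (h p) q).1 hq ((hgz p).1 (hM'C hp))
  have h1 := hup q hξq hqy
  rcases Nat.lt_or_ge (trd f q) e with h' | h'
  · omega
  · exact absurd hzq (hzT q ((hmemT q).2 ⟨hξq, hqy, le_antisymm h1 h'⟩))

end Proj

end Groth.Agent.H70.DescCut
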