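import Groth.Agent.H70.DescAlg
import Groth.Agent.H70.DescCut
import Groth.Agent.H46.SubStalk
import Groth.Agent.Lib.HProj.Proper
import Groth.Agent.Lib.Ideal.Comap
import Groth.Agent.Lib.FEt.NormalCover
import Groth.Agent.S15978
import Groth.Prelude.Def_RelProj
import Groth.Prelude.Def_FGA
import Groth.Agent.H75.RedKer

/-!
# Finite multisections of projective morphisms and descent of supports
-/

set_option autoImplicit false
set_option linter.style.haveILetI false
universe u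

open CategoryTheory CategoryTheory.Limits AlgebraicGeometry Topology
open TopologicalSpace (Closeds NoetherianSpace)
open Groth.Agent.H46 Groth.Agent.H46.FibreTrdeg Groth.Agent.H46.DimData
open Groth.Agent.Lib.Cyc

namespace Groth.Agent.H70.DescMain

variable {X Y : Scheme.{u}}

/-- A multisection which is quasi-finite over `y`. -/
theorem exists_multisection [IsNoetherian X] [IsIntegral X] [IsNoetherian Y] [IsIntegral Y]
    (π : X ⟶ Y) [LocallyOfFiniteType π] [Surjective π] (hπ : RelProj.IsLocallyProjective π) (d : ℕ)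
    (hd : ∀ y : Y, topologicalKrullDim (↥(π.fiber y) : Type u) = d) (y : Y) :
    ∃ ξ : X, π ξ = genericPoint Y ∧ (∃ x, ξ ⤳ x ∧ π x = y) ∧
      ∀ z, ξ ⤳ z → π z = y → trd π z = 0 := by
  classical
  obtain ⟨U₀, hy, 𝒮, P, p, chart, e, -, -, -, hep⟩ := hπ y
  obtain ⟨U, hU, hyU, -⟩ := exists_isAffineOpen_mem_and_subset (show (⟨y, hy⟩ : U₀) ∈ (⊤ : U₀.toScheme.Opens) from trivial)
  set j : Proj (𝒮.deg U hU) ⟶ X :=
    (chart U hU).inv ≫ (p ⁻¹ᵁ U).ι ≫ e.inv ≫ (π ⁻¹ᵁ U₀).ι with hj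
  haveI : IsOpenImmersion j := inferInstance
  set f := j ≫ π with hf
  haveI : LocallyOfFiniteType f := inferInstance
  haveI : NoetherianSpace ↥(Proj (𝒮.deg U hU)) := j.isEmbedding.isInducing.noetherianSpace
  have hrange : ∀ x : X, (∃ hx : π x ∈ U₀, (⟨π x, hx⟩ : U₀) ∈ U) → x ∈ Set.range j := by
    rintro x ⟨hx, hxU⟩
    have hmem : e.hom ⟨x, hx⟩ ∈ p ⁻¹ᵁ U := by
      show p (e.hom ⟨x, hx⟩) ∈ U
      rw [← Scheme.Hom.comp_apply, hep]
      have : (π ∣_ U₀) ⟨x, hx⟩ = (⟨π x, hx⟩ : U₀) := Subtype.ext (by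
        rw [morphismRestrict_base]; rfl)
      rw [this]; exact hxU
    refine ⟨(chart U hU).hom ⟨_, hmem⟩, ?_⟩
    simp only [hj, Scheme.Hom.comp_apply]
    rw [← Scheme.Hom.comp_apply (chart U hU).hom, Iso.hom_inv_id]
    show (π ⁻¹ᵁ U₀).ι (e.inv (e.hom ⟨x, hx⟩)) = x
    rw [← Scheme.Hom.comp_apply e.hom, Iso.hom_inv_id]
    rfl
  obtain ⟨x₀, hx₀⟩ := Surjective.surj (f := π) y
  obtain ⟨x', hx'⟩ := hrange x₀ (by subst hx₀; exact ⟨hy, hyU⟩)
  obtain ⟨ξ₀, hξ₀⟩ : genericPoint X ∈ Set.range j :=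
    (genericPoint_specializes x₀).mem_open j.isOpenEmbedding.isOpen_range ⟨x', hx'⟩
  have hle : ∀ z, trd π z ≤ d := fun z => (dim_fiber_le_iff π _ d).1 (hd _).le z rfl
  have hgη : π (genericPoint X) = genericPoint Y := by
    obtain ⟨w, hw⟩ := Surjective.surj (f := π) (genericPoint Y)
    exact (((genericPoint_specializes w).map π.continuous).antisymm
      (hw ▸ genericPoint_specializes _)).eq.trans hw
  have hgd : trd π (genericPoint X) = d := by
    refine le_antisymm (hle _) ?_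
    have := (dim_fiber_le_iff π (π (genericPoint X)) _).2
      fun ξ hξ => trd_le π (genericPoint_specializes ξ) hξ.symm
    rw [hd] at this
    exact_mod_cast this
  have hfapp : ∀ w, f w = π (j w) := fun w => Scheme.Hom.comp_apply _ _ _
  have hgood : DescCut.Good (𝒮.deg U hU) f y d ξ₀ := by
    refine ⟨by rw [hfapp, hξ₀, hgη], by rw [hf, trd_comp, hξ₀, hgd], ⟨x', ?_, ?_⟩, fun z _ _ => ?_⟩
    · exact j.isEmbedding.isInducing.specializes_iff.1 (by rw [hξ₀]; exact genericPoint_specializes _)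
    · rw [hfapp, hx', hx₀]
    · rw [hf, trd_comp]; exact hle _
  have hzero : ∀ n ξ, DescCut.Good (𝒮.deg U hU) f y n ξ →
      ∃ ξ', DescCut.Good (𝒮.deg U hU) f y 0 ξ' := by
    intro n
    induction n with
    | zero => exact fun ξ h => ⟨ξ, h⟩
    | succ n ih =>
      intro ξ h
      obtain ⟨x, hx, hxy⟩ := h.2.2.1
      have hex : ∃ k, ∃ x, ξ ⤳ x ∧ f x = y ∧ trd f x = k := ⟨_, x, hx, hxy, rfl⟩
      obtain ⟨x₁, hx₁, hx₁y, hx₁k⟩ := Nat.find_spec hex
      have h0 : trd f x₁ = 0 := by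
        refine SubStalk.trd_eq_zero_of_closed f x₁ fun w hw hs => ?_
        refine (eq_of_trd_le f hs hw.symm ?_).symm
        rw [hx₁k]
        exact Nat.find_le ⟨w, hx₁.trans hs, hw.trans hx₁y, rfl⟩
      obtain ⟨ξ', hξ'⟩ := DescCut.step (𝒮.deg U hU) f h hx₁ hx₁y (by omega)
      exact ih ξ' hξ'
  obtain ⟨ξ, hη, -, ⟨x, hx, hxy⟩, hup⟩ := hzero d ξ₀ hgood
  refine ⟨j ξ, (hfapp ξ) ▸ hη, ⟨j x, hx.map j.continuous, (hfapp x) ▸ hxy⟩, fun z hz hzy => ?_⟩
  obtain ⟨z', rfl⟩ := hrange z (by subst hzy; exact ⟨hy, hyU⟩)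
  have := hup z' (j.isEmbedding.isInducing.specializes_iff.1 hz) ((hfapp z').trans hzy)
  rw [hf, trd_comp] at this
  omega

theorem mem_prime_iff {U : Y.Opens} (hU : IsAffineOpen U) (g : Γ(Y, U))
    (P : PrimeSpectrum Γ(Y, U)) : g ∈ P.asIdeal ↔ hU.fromSpec P ∉ Y.basicOpen g := by
  have h := SetLike.ext_iff.1 (hU.fromSpec_preimage_basicOpen g) P
  exact (not_iff_not.2 h).trans not_not |>.symm

theorem exists_prime {U : Y.Opens} (hU : IsAffineOpen U) {v : Y} (hv : v ∈ U) :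
    ∃ P, hU.fromSpec P = v :=
  hU.range_fromSpec.ge hv

theorem fromSpec_le_iff {U : Y.Opens} (hU : IsAffineOpen U) (P Q : PrimeSpectrum Γ(Y, U)) :
    hU.fromSpec P ⤳ hU.fromSpec Q ↔ P.asIdeal ≤ Q.asIdeal :=
  hU.fromSpec.isEmbedding.isInducing.specializes_iff.trans
    (PrimeSpectrum.le_iff_specializes P Q).symm

theorem isProper_of_isLocallyProjective (π : X ⟶ Y) (hπ : RelProj.IsLocallyProjective π) :
    IsProper π := by
  choose U hU hU' using hπ
  exact IsZariskiLocalAtTarget.of_iSup_eq_top U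
    (top_le_iff.1 fun y _ => TopologicalSpace.Opens.mem_iSup.2 ⟨y, hU y⟩)
    fun y => Groth.Agent.Lib.HProj.Proper.isProper_of_isProjective (hU' y)

set_option maxHeartbeats 800000 in
/-- A local equation with the support of a prime divisor of the base. -/
theorem exists_local_equation [IsNoetherian X] [IsIntegral X] [IsNoetherian Y] [IsIntegral Y]
    (hYn : Pi1.IsNormalScheme Y) (π : X ⟶ Y) [IsProper π] [Surjective π]
    (hπ : RelProj.IsLocallyProjective π) (d : ℕ)
    (hd : ∀ y : Y, topologicalKrullDim (↥(π.fiber y) : Type u) = d)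
    (hX : ∀ ξ : X, ringKrullDim (X.presheaf.stalk ξ) = 1 →
      ∃ I : X.IdealSheafData, FGA.IsEffCartier I ∧ (I.support : Set X) = closure {ξ})
    {η : Y} (hη : sd η = 1) (y : Y) :
    ∃ U : Y.affineOpens, y ∈ U.1 ∧ ∃ g : Γ(Y, U),
      ∀ v ∈ U.1, (v ∈ Y.basicOpen g ↔ v ∉ closure {η}) := by
  classical
  by_cases hyη : y ∈ closure {η}
  swap
  · obtain ⟨U, hU, hyU, hle⟩ := exists_isAffineOpen_mem_and_subset
      (show y ∈ (⟨(closure {η})ᶜ, isClosed_closure.isOpen_compl⟩ : Y.Opens) from hyη)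
    refine ⟨⟨U, hU⟩, hyU, 1, fun v hv => ?_⟩
    rw [show Y.basicOpen (1 : Γ(Y, U)) = U from Scheme.basicOpen_of_isUnit _ isUnit_one]
    exact iff_of_true hv (hle hv)
  have hηgen : genericPoint Y ∉ closure {η} := fun h => by
    have he : η = genericPoint Y :=
      ((specializes_iff_mem_closure.2 h).antisymm (genericPoint_specializes η)).eq
    have h0 : ringKrullDim (Y.presheaf.stalk (genericPoint Y)) = 0 :=
      ringKrullDim_eq_zero_of_field (F := Y.functionField)
    rw [ringKrullDim_stalk, show sd (genericPoint Y) = 1 from (congrArg sd he).symm.trans hη] at h0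
    exact absurd h0 (by norm_num)
  -- codimension one points over `η`
  haveI : IsLocallyNoetherian Y := inferInstance
  obtain ⟨M, hMfin, hMC, hMmax, hMcov⟩ :=
    DescCut.exists_max (C := π ⁻¹' closure {η}) (isClosed_closure.preimage π.continuous)
  obtain ⟨hopen, hfam⟩ := Groth.Agent.S15978.family π hYn isClosed_univ
    (IrreducibleSpace.isIrreducible_univ X) (Set.image_univ.trans π.surjective.range_eq) d
    (fun v => by
      rw [Set.univ_inter, ← hd v]
      exact ((π.fiberHomeo v).isHomeomorph.topologicalKrullDim_eq _).symm)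
  set M₀ := {ζ ∈ M | π ζ = η}
  have hcov : ∀ x : X, π x ∈ closure {η} → ∃ ζ ∈ M₀, ζ ⤳ x := by
    have hop : IsOpenMap π := fun O hO => by simpa using hopen O hO
    have hcl : closure (π ⁻¹' {η}) ⊆ ⋃ ζ ∈ M₀, closure {ζ} := by
      refine closure_minimal ?_ ((hMfin.subset fun ζ h => h.1).isClosed_biUnion
        fun ζ _ => isClosed_closure)
      intro x hx
      obtain ⟨ζ, hζ, hζx⟩ := hMcov x (show π x ∈ closure {η} from subset_closure hx)
      exact Set.mem_biUnion ⟨hζ, ((specializes_iff_mem_closure.2 (hMC hζ)).antisymm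
        ((show π x = η from hx) ▸ hζx.map π.continuous)).symm.eq⟩ hζx.mem_closure
    intro x hx
    have := hcl ((hop.preimage_closure_subset_closure_preimage (s := {η})) hx)
    simp only [Set.mem_iUnion] at this
    obtain ⟨ζ, hζ, hζx⟩ := this
    exact ⟨ζ, hζ, specializes_iff_mem_closure.2 hζx⟩
  have hI : ∀ ζ ∈ M₀, ∃ I : X.IdealSheafData, FGA.IsEffCartier I ∧
      (I.support : Set X) = closure {ζ} := by
    rintro ζ ⟨hζ, hζη⟩
    refine hX ζ ?_
    rw [ringKrullDim_stalk]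
    have hmaxfib : IsMaxFib π ζ := fun w hw hwζ =>
      (hwζ.antisymm (hMmax ζ hζ w (show π w ∈ closure {η} from
        (hw.trans hζη) ▸ subset_closure rfl) hwζ)).eq
    have h1 := sd_le_add π ζ
    rw [(fd_eq_zero_iff π ζ).2 hmaxfib, hζη, hη] at h1
    have hne : genericPoint X ≠ ζ := fun e => hηgen (by
      have : π (genericPoint X) = genericPoint Y := by
        obtain ⟨w, hw⟩ := Surjective.surj (f := π) (genericPoint Y)
        exact (((genericPoint_specializes w).map π.continuous).antisymm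
          (hw ▸ genericPoint_specializes _)).eq.trans hw
      rw [← this, e, hζη]
      exact subset_closure rfl)
    have h2 := qd_lt (specializes_refl ζ) (genericPoint_specializes ζ) (genericPoint_specializes ζ) hne
    have h3 := qd_le_sd (genericPoint_specializes ζ)
    have h4 : sd ζ = 1 := by omega
    rw [h4]; rfl
  choose! I hIc hIs using hI
  -- the multisection
  obtain ⟨ξ, hξη, ⟨x, hξx, hxy⟩, hξ0⟩ := exists_multisection π hπ d hd y
  set ι := (Scheme.IdealSheafData.vanishingIdeal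
    (⟨closure {ξ}, isClosed_closure⟩ : Closeds X)).subschemeι with hιdef
  have hrι : Set.range ι = closure {ξ} := by
    rw [hιdef, Scheme.IdealSheafData.range_subschemeι,
      Scheme.IdealSheafData.coe_support_vanishingIdeal]
    rfl
  set q := ι ≫ π with hqdef
  haveI : IsProper q := inferInstance
  obtain ⟨ξz, hξz⟩ : ξ ∈ Set.range ι := hrι.ge (subset_closure rfl)
  obtain ⟨xz, hxz⟩ : x ∈ Set.range ι := hrι.ge hξx.mem_closure
  haveI : IrreducibleSpace (Scheme.IdealSheafData.vanishingIdeal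
      (⟨closure {ξ}, isClosed_closure⟩ : Closeds X)).subscheme := by
    haveI : Nonempty ↥(Scheme.IdealSheafData.vanishingIdeal
      (⟨closure {ξ}, isClosed_closure⟩ : Closeds X)).subscheme := ⟨ξz⟩
    have : IsGenericPoint ξz Set.univ := by
      refine isGenericPoint_iff_specializes.2 fun v => ⟨fun _ => trivial, fun _ => ?_⟩
      refine ι.isEmbedding.isInducing.specializes_iff.1 ?_
      rw [hξz]
      exact specializes_iff_mem_closure.2 (hrι.le ⟨v, rfl⟩)
    exact { isPreirreducible_univ := this.isIrreducible.isPreirreducible, toNonempty := ⟨ξz⟩ }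
  haveI : IsReduced (Scheme.IdealSheafData.vanishingIdeal
      (⟨closure {ξ}, isClosed_closure⟩ : Closeds X)).subscheme :=
    H75.RedSub.isReduced_vanishingIdeal _
  haveI : IsIntegral (Scheme.IdealSheafData.vanishingIdeal
      (⟨closure {ξ}, isClosed_closure⟩ : Closeds X)).subscheme :=
    isIntegral_of_irreducibleSpace_of_isReduced _
  haveI : NoetherianSpace ↥(Scheme.IdealSheafData.vanishingIdeal
      (⟨closure {ξ}, isClosed_closure⟩ : Closeds X)).subscheme :=
    ι.isEmbedding.isInducing.noetherianSpace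
  have hqy : ∀ z, q z = y → trd q z = 0 := fun z hz => by
    rw [hqdef, trd_comp]
    exact hξ0 _ (specializes_iff_mem_closure.2 (hrι.le ⟨z, rfl⟩)) hz
  have hbad : IsClosed (q '' {z | FlatMor.fibreDimAt q z ≤ ((0 : ℕ) : WithBot ℕ∞)}ᶜ) :=
    q.isClosedMap _
      (Groth.Agent.Lib.FibreDim.Semicont.isOpen_setOf_fibreDimAt_le q _).isClosed_compl
  have hybad : y ∈ (⟨_, hbad.isOpen_compl⟩ : Y.Opens) := by
    rintro ⟨z, hz, hzy⟩
    exact hz ((fibreDimAt_le_iff q z 0).2 fun w hw _ => (hqy w (hw.trans hzy)).le)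
  obtain ⟨U, hU, hyU, hUle⟩ := exists_isAffineOpen_mem_and_subset hybad
  have h0 : ∀ z, q z ∈ U → trd q z = 0 := fun z hz => by
    have : FlatMor.fibreDimAt q z ≤ ((0 : ℕ) : WithBot ℕ∞) := by
      by_contra hc
      exact hUle hz ⟨z, hc, rfl⟩
    exact Nat.le_zero.1 ((fibreDimAt_le_iff q z 0).1 this z rfl specializes_rfl)
  have hfinfib : ∀ v ∈ U, (q ⁻¹' {v}).Finite := by
    intro v hv
    obtain ⟨M', hM', hM'C, -, hM'cov⟩ :=
      DescCut.exists_max (isClosed_closure.preimage q.continuous (t := closure {v}))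
    refine hM'.subset fun t ht => ?_
    obtain ⟨p', hp', hp't⟩ := hM'cov t (show q t ∈ closure {v} from subset_closure ht)
    have hqp : q p' = v := ((specializes_iff_mem_closure.2 (hM'C hp')).antisymm
      ((show q t = v from ht) ▸ hp't.map q.continuous)).symm.eq
    rw [← eq_of_trd_le q hp't (hqp.trans ht.symm) (by rw [h0 p' (hqp ▸ hv)]; exact Nat.zero_le _)]
    exact hp'
  haveI : LocallyQuasiFinite (q ∣_ U) := LocallyQuasiFinite.of_finite_preimage_singleton _ fun v => by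
    refine ((hfinfib v.1 v.2).preimage (q ⁻¹ᵁ U).ι.isOpenEmbedding.injective.injOn).subset ?_
    intro t ht
    have := congrArg Subtype.val (show (q ∣_ U) t = v from ht)
    rw [morphismRestrict_base] at this
    exact this
  haveI : IsFinite (q ∣_ U) := IsFinite.of_isProper_of_locallyQuasiFinite _
  haveI : IsAffine (U : Scheme.{u}) := hU
  set W := q ⁻¹ᵁ U with hWdef
  have hW : IsAffineOpen W := isAffine_of_isAffineHom (q ∣_ U)
  set φ := q.appLE U W le_rfl with hφdef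
  have hφfin : φ.hom.Finite := by
    have h := IsFinite.finite_app (f := q ∣_ U) ⊤ (isAffineOpen_top _)
    rw [← Scheme.Hom.resLE_eq_morphismRestrict, Scheme.Hom.resLE_app_top] at h
    have h2 : ((U.topIso.hom ≫ φ) ≫ W.topIso.inv).hom.Finite := by
      rw [Category.assoc]; exact h
    rw [CommRingCat.hom_comp, RingHom.finite_respectsIso.cancel_right_isIso, CommRingCat.hom_comp,
      RingHom.finite_respectsIso.cancel_left_isIso] at h2
    exact h2
  have hmap : ∀ Q, hU.fromSpec (Spec.map φ Q) = q (hW.fromSpec Q) := fun Q => by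
    rw [← Scheme.Hom.comp_apply, hU.SpecMap_appLE_fromSpec q hW le_rfl, Scheme.Hom.comp_apply]
  have hqξ : q ξz = genericPoint Y := by rw [hqdef, Scheme.Hom.comp_apply, hξz, hξη]
  haveI : Nonempty U := ⟨⟨y, hyU⟩⟩
  haveI : Nonempty W := ⟨⟨xz, show q xz ∈ U by
    rw [hqdef, Scheme.Hom.comp_apply, hxz, hxy]; exact hyU⟩⟩
  letI : Algebra Γ(Y, U) Γ((Scheme.IdealSheafData.vanishingIdeal (⟨closure {ξ}, isClosed_closure⟩ : Closeds X)).subscheme, W) := φ.hom.toAlgebra
  haveI : Module.Finite Γ(Y, U) Γ((Scheme.IdealSheafData.vanishingIdeal (⟨closure {ξ}, isClosed_closure⟩ : Closeds X)).subscheme, W) := hφfin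
  haveI : IsIntegrallyClosed Γ(Y, U) :=
    Groth.Agent.Lib.FEt.NormalCover.isIntegrallyClosed_sections hYn
  have hinj : Function.Injective φ.hom := by
    rw [RingHom.injective_iff_ker_eq_bot, ← le_bot_iff]
    obtain ⟨Q, hQ⟩ := exists_prime hW (show ξz ∈ W from show q ξz ∈ U by
      rw [hqξ]; exact (genericPoint_specializes y).mem_open U.2 hyU)
    have h := (fromSpec_le_iff hU (Spec.map φ Q) ⟨⊥, Ideal.isPrime_bot⟩).1
      (by rw [hmap, hQ, hqξ]; exact genericPoint_specializes _)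
    exact fun a ha => h (show φ.hom a ∈ Q.asIdeal by
      rw [show φ.hom a = 0 from ha]; exact zero_mem _)
  haveI : FaithfulSMul Γ(Y, U) Γ((Scheme.IdealSheafData.vanishingIdeal (⟨closure {ξ}, isClosed_closure⟩ : Closeds X)).subscheme, W) := (faithfulSMul_iff_algebraMap_injective _ _).2 hinj
  -- primes over `y`
  have hSfin : {m : Ideal Γ((Scheme.IdealSheafData.vanishingIdeal (⟨closure {ξ}, isClosed_closure⟩ : Closeds X)).subscheme, W) | ∃ hm : m.IsPrime, q (hW.fromSpec ⟨m, hm⟩) = y}.Finite := by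
    refine Set.Finite.subset (((hfinfib y hyU).preimage
      hW.fromSpec.isOpenEmbedding.injective.injOn).image PrimeSpectrum.asIdeal) ?_
    rintro m ⟨hm, hmy⟩
    exact ⟨⟨m, hm⟩, hmy, rfl⟩
  have hgen : ∀ ζ ∈ M₀, ∃ f ∈ ((I ζ).comap ι).ideal ⟨W, hW⟩, ∀ m ∈ hSfin.toFinset,
      ∀ z ∈ ((I ζ).comap ι).ideal ⟨W, hW⟩, ∃ s ∉ m, ∃ c, s * z = c * f := by
    intro ζ hζ
    refine DescAlg.exists_gen _ _ (fun m hm => (hSfin.mem_toFinset.1 hm).1) ?_ ?_
    · intro m hm m' hm' hle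
      obtain ⟨hp, hmy⟩ := hSfin.mem_toFinset.1 hm
      obtain ⟨hp', hmy'⟩ := hSfin.mem_toFinset.1 hm'
      have := eq_of_trd_le q ((fromSpec_le_iff hW ⟨m, hp⟩ ⟨m', hp'⟩).2 hle) (hmy.trans hmy'.symm)
        (by rw [hqy _ hmy]; exact Nat.zero_le _)
      exact congrArg PrimeSpectrum.asIdeal (hW.fromSpec.isOpenEmbedding.injective this)
    · intro m hm
      obtain ⟨hp, hmy⟩ := hSfin.mem_toFinset.1 hm
      set w := hW.fromSpec ⟨m, hp⟩ with hwdef
      obtain ⟨V, hwV, a, -, ha⟩ := hIc ζ hζ (ι w)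
      obtain ⟨s, hsle, hws⟩ := hW.exists_basicOpen_le
        (V := ι ⁻¹ᵁ V.1) ⟨w, hwV⟩ (hW.range_fromSpec.le ⟨_, rfl⟩)
      set Ds : Scheme.affineOpens _ := ⟨_, hW.basicOpen s⟩
      have ht := Groth.Agent.Lib.Ideal.Comap.ideal_comap ι (I ζ) V Ds hsle
      rw [ha, Ideal.map_span, Set.image_singleton] at ht
      set t := (ι.appLE V.1 Ds.1 hsle).hom a
      have hloc := hW.isLocalization_basicOpen s
      have hmi := ((I ζ).comap ι).map_ideal_basicOpen ⟨W, hW⟩ s
      have hsm : s ∉ m := fun h => (mem_prime_iff hW s ⟨m, hp⟩).1 h hws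
      have htmem : t ∈ Ideal.map (algebraMap Γ((Scheme.IdealSheafData.vanishingIdeal (⟨closure {ξ}, isClosed_closure⟩ : Closeds X)).subscheme, W) Γ((Scheme.IdealSheafData.vanishingIdeal (⟨closure {ξ}, isClosed_closure⟩ : Closeds X)).subscheme, Ds.1))
          (((I ζ).comap ι).ideal ⟨W, hW⟩) := by
        rw [show Ideal.map (algebraMap Γ((Scheme.IdealSheafData.vanishingIdeal (⟨closure {ξ}, isClosed_closure⟩ : Closeds X)).subscheme, W) Γ((Scheme.IdealSheafData.vanishingIdeal (⟨closure {ξ}, isClosed_closure⟩ : Closeds X)).subscheme, Ds.1))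
          (((I ζ).comap ι).ideal ⟨W, hW⟩) = ((I ζ).comap ι).ideal Ds from hmi, ht]
        exact Ideal.mem_span_singleton_self t
      obtain ⟨⟨a', k⟩, hk⟩ :=
        (IsLocalization.mem_map_algebraMap_iff (Submonoid.powers s) _).1 htmem
      refine ⟨a', a'.2, fun z hz => ?_⟩
      have hzt : algebraMap _ Γ((Scheme.IdealSheafData.vanishingIdeal (⟨closure {ξ}, isClosed_closure⟩ : Closeds X)).subscheme, Ds.1) z ∈ Ideal.span {t} := by
        rw [← ht]
        exact hmi.le (Ideal.mem_map_of_mem _ hz)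
      obtain ⟨c, hc⟩ := Ideal.mem_span_singleton'.1 hzt
      obtain ⟨⟨c', k'⟩, hck⟩ := IsLocalization.surj (Submonoid.powers s) c
      have : algebraMap _ Γ((Scheme.IdealSheafData.vanishingIdeal (⟨closure {ξ}, isClosed_closure⟩ : Closeds X)).subscheme, Ds.1) (k.1 * k'.1 * z) =
          algebraMap _ _ (c' * a'.1) := by
        simp only [map_mul, ← hc, ← hck, ← hk]; ring
      obtain ⟨l, hl⟩ := (IsLocalization.eq_iff_exists (Submonoid.powers s) _).1 this
      refine ⟨l.1 * k.1 * k'.1, ?_, l.1 * c', by linear_combination hl⟩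
      have hpow : ∀ o : Submonoid.powers s, (o : Γ((Scheme.IdealSheafData.vanishingIdeal (⟨closure {ξ}, isClosed_closure⟩ : Closeds X)).subscheme, W)) ∉ m := fun o h => by
        obtain ⟨j, hj⟩ := o.2
        exact hsm (hp.mem_of_pow_mem j (by simpa [hj] using h))
      exact fun h => (hp.mem_or_mem h).elim (fun h => (hp.mem_or_mem h).elim (hpow l) (hpow k))
        (hpow k')
  choose! fζ hfI hfgen using hgen
  set M₁ := (hMfin.subset (show M₀ ⊆ M from fun ζ h => h.1)).toFinset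
  have hM₁ : ∀ ζ, ζ ∈ M₁ ↔ ζ ∈ M₀ := fun ζ => Set.Finite.mem_toFinset _
  have hsupp : ∀ ζ ∈ M₀, ∀ Q : PrimeSpectrum Γ((Scheme.IdealSheafData.vanishingIdeal (⟨closure {ξ}, isClosed_closure⟩ : Closeds X)).subscheme, W),
      ((I ζ).comap ι).ideal ⟨W, hW⟩ ≤ Q.asIdeal ↔ ι (hW.fromSpec Q) ∈ closure {ζ} := by
    intro ζ hζ Q
    have h1 := Set.ext_iff.1 (((I ζ).comap ι).coe_support_inter ⟨W, hW⟩) (hW.fromSpec Q)
    simp only [Set.mem_inter_iff, Scheme.IdealSheafData.support_comap, SetLike.mem_coe] at h1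
    have h2 : hW.fromSpec Q ∈ (I ζ).support.preimage ι.continuous ↔
        ι (hW.fromSpec Q) ∈ closure {ζ} := by
      rw [← hIs ζ hζ]; rfl
    have hin : hW.fromSpec Q ∈ W := hW.range_fromSpec.le ⟨Q, rfl⟩
    rw [← h2]
    refine Iff.trans ?_ ⟨fun h => (h1.2 ⟨h, hin⟩).1, fun h => (h1.1 ⟨h, hin⟩).1⟩
    rw [Scheme.mem_zeroLocus_iff]
    exact forall₂_congr fun a _ => mem_prime_iff hW a Q
  set F := ∏ ζ ∈ M₁, fζ ζ
  obtain ⟨g, hg1, hg2⟩ := DescAlg.exists_norm (R := Γ(Y, U)) F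
  have key : ∀ v ∈ U, v ⤳ y → (v ∈ Y.basicOpen g ↔ v ∉ closure {η}) := by
    intro v hvU hvy
    obtain ⟨P, hP⟩ := exists_prime hU hvU
    subst hP
    rw [← not_iff_not, not_not, ← mem_prime_iff hU]
    constructor
    · intro hgP
      obtain ⟨Q, hQ, hQP, hFQ⟩ := hg2 _ P.isPrime hgP
      obtain ⟨ζ, hζ, hfQ⟩ := hQ.prod_mem_iff.1 hFQ
      have hζ' := (hM₁ ζ).1 hζ
      have hqQ : q (hW.fromSpec ⟨Q, hQ⟩) = hU.fromSpec P := by
        rw [← hmap]
        exact congrArg _ (PrimeSpectrum.ext hQP)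
      obtain ⟨z', hz', hz'y⟩ : ∃ z', hW.fromSpec ⟨Q, hQ⟩ ⤳ z' ∧ q z' = y := by
        have hm := (q.isClosedMap _ (isClosed_closure (s := {hW.fromSpec ⟨Q, hQ⟩})))
        have hyim : y ∈ q '' closure {hW.fromSpec ⟨Q, hQ⟩} :=
          hvy.mem_closed hm ⟨_, subset_closure rfl, hqQ⟩
        obtain ⟨z', h1, h2⟩ := hyim
        exact ⟨z', specializes_iff_mem_closure.2 h1, h2⟩
      obtain ⟨m, rfl⟩ := exists_prime hW (show z' ∈ W from show q z' ∈ U by rw [hz'y]; exact hyU)
      have hQm := (fromSpec_le_iff hW ⟨Q, hQ⟩ m).1 hz'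
      have hle : ((I ζ).comap ι).ideal ⟨W, hW⟩ ≤ Q := fun z hz => by
        obtain ⟨s, hs, c, hc⟩ := hfgen ζ hζ' _ (hSfin.mem_toFinset.2 ⟨m.isPrime, hz'y⟩) z hz
        exact (hQ.mem_or_mem (hc ▸ Ideal.mul_mem_left _ c hfQ)).resolve_left fun h => hs (hQm h)
      have h := ((specializes_iff_mem_closure.2 ((hsupp ζ hζ' ⟨Q, hQ⟩).1 hle)).map
        π.continuous).mem_closure
      rw [← Scheme.Hom.comp_apply, ← hqdef, hqQ, hζ'.2] at h
      exact h
    · intro hv
      obtain ⟨Q, -, hQ, hQP⟩ := Ideal.exists_ideal_over_prime_of_isIntegral P.asIdeal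
        (⊥ : Ideal Γ((Scheme.IdealSheafData.vanishingIdeal (⟨closure {ξ}, isClosed_closure⟩ : Closeds X)).subscheme, W)) (by
          exact (Ideal.comap_bot_of_injective _ hinj).trans_le bot_le)
      have hqQ : q (hW.fromSpec ⟨Q, hQ⟩) = hU.fromSpec P := by
        rw [← hmap]
        exact congrArg _ (PrimeSpectrum.ext hQP)
      obtain ⟨ζ, hζ, hζQ⟩ := hcov (ι (hW.fromSpec ⟨Q, hQ⟩)) (by
        rw [← Scheme.Hom.comp_apply, ← hqdef, hqQ]; exact hv)
      have := (hsupp ζ hζ ⟨Q, hQ⟩).2 hζQ.mem_closure (hfI ζ hζ)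
      have hF : F ∈ Q := by
        obtain ⟨r, hr⟩ := Finset.dvd_prod_of_mem fζ ((hM₁ ζ).2 hζ)
        show F ∈ Q
        rw [show F = fζ ζ * r from hr]
        exact Ideal.mul_mem_right _ _ this
      exact hQP.le (hg1 Q hQ hF)
  -- shrink
  obtain ⟨M₂, hM₂, hM₂C, -, hM₂cov⟩ :=
    DescCut.exists_max (Y.basicOpen g).2.isClosed_compl
  have hB : IsClosed (⋃ p ∈ {p ∈ M₂ | ¬ p ⤳ y}, closure ({p} : Set Y)) :=
    (hM₂.subset fun p h => h.1).isClosed_biUnion fun p _ => isClosed_closure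
  obtain ⟨U', hU', hyU', hle⟩ := exists_isAffineOpen_mem_and_subset
    (show y ∈ U ⊓ (⟨_, hB.isOpen_compl⟩ : Y.Opens) from ⟨hyU, fun h => by
      simp only [Set.mem_iUnion] at h
      obtain ⟨p, hp, hpy⟩ := h
      exact hp.2 (specializes_iff_mem_closure.2 hpy)⟩)
  refine ⟨⟨U', hU'⟩, hyU', Y.presheaf.map (homOfLE fun v hv => (hle hv).1).op g, fun v hv => ?_⟩
  rw [Scheme.basicOpen_res]
  refine ⟨fun h hvη => ?_, fun h => ⟨hv, ?_⟩⟩
  · have hηy : η ⤳ y := specializes_iff_mem_closure.2 hyη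
    exact (key η (hηy.mem_open U.2 hyU) hηy).1
      ((specializes_iff_mem_closure.2 hvη).mem_open (Y.basicOpen g).2 h.2) (subset_closure rfl)
  · by_contra hg'
    obtain ⟨p, hp, hpv⟩ := hM₂cov v hg'
    have hpy : p ⤳ y := by
      by_contra hc
      exact (hle hv).2 (Set.mem_biUnion ⟨hp, hc⟩ hpv.mem_closure)
    have := not_not.1 (mt (key p (hpv.mem_open U.2 (hle hv).1) hpy).2 (hM₂C hp))
    exact h (hpv.mem_closed isClosed_closure this)

end Groth.Agent.H70.DescMain
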