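import Groth.Agent.Lib.C1Coh29.Div
import Groth.Agent.Lib.RefHull.Group
import Groth.Agent.Lib.RefHull.DivTwist
import Groth.Agent.Lib.KVec.KcohNil
import Groth.Agent.Lib.Devissage.FibreGen
import Groth.Agent.Lib.ClSub.Quot
import Groth.Prelude.Def_KDet2

set_option autoImplicit false
set_option linter.style.haveILetI false
universe u

open CategoryTheory CategoryTheory.Limits AlgebraicGeometry Opposite Submodule
open Groth.Agent.Lib Groth.Agent.Lib.C1Coh29

namespace Groth.Agent.H70.DetTwist

noncomputable section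

variable {X : Scheme.{u}} [IsNoetherian X] [IsIntegral X]

open RefHull

/-- extension of a function on codimension one points -/
def ext (D : Sheaf.P1 X → ℤ) (y : X) : ℤ :=
  if h : ringKrullDim (X.presheaf.stalk y) = 1 then D ⟨y, h⟩ else 0

theorem ext_apply (D : Sheaf.P1 X → ℤ) (x : Sheaf.P1 X) : ext D x.1 = D x := dif_pos x.2

theorem ordFrac_eq_ord {x : X} (hx : Order.coheight x = 1) {f : X.functionField} (hf : f ≠ 0) :
    CycAlg.ordFrac (X.presheaf.stalk x) X.functionField f = Scheme.ord f x := by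
  have : Ring.KrullDimLE 1 (X.presheaf.stalk x) := krullDimLE_of_coheight_le hx.le
  rw [Cyc.Ord.ordFrac_def, Scheme.ord_eq_unzero_ordHom hx hf]
  show Cyc.Ord.toInt (X.ordHom x hx f) = _
  obtain ⟨p, hp⟩ := WithZero.ne_zero_iff_exists.mp ((map_ne_zero (X.ordHom x hx)).mpr hf)
  simp only [← hp]
  rfl

variable (hX : Pi1.IsNormalScheme X)

include hX in
/-- the first Chern class of a reflexive module of rank one is the divisor of a rational section -/
theorem c1_eq_secOrd {F : X.Modules} (hF : RefHull.IsRef1 F) {v : F.presheaf.stalk (genericPoint X)}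
    (hv : v ≠ 0) :
    Sheaf.c1 F = QuotientAddGroup.mk (fun x : Sheaf.P1 X => Lib.RefHull.Ord.secOrd F v x.1) := by
  haveI := Sheaf.finiteDim hF.1
  have hspan : ∀ w : Sheaf.Vec F, ∃ a : X.functionField, a • v = w :=
    fun w => Lib.RefHull.RankOne.span_of_ne_zero hF.2.2 hv w
  have hv' : (v : Sheaf.Vec F) ≠ 0 := hv
  let b : Module.Basis PUnit.{1} X.functionField (Sheaf.Vec F) :=
    Module.Basis.mk (v := fun _ => (v : Sheaf.Vec F))
      (linearIndependent_unique_iff.mpr hv')
      (fun w _ => by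
        obtain ⟨a, ha⟩ := hspan w
        rw [Set.range_const]
        exact Submodule.mem_span_singleton.mpr ⟨a, ha⟩)
  rw [Sheaf.c1_eq hF.1 b]
  refine congrArg QuotientAddGroup.mk (funext fun x => ?_)
  have hy : Order.coheight x.1 = 1 := Div.coh1 x
  obtain ⟨t, ht, ht0⟩ := Lib.RefHull.Ord.exists_generator hX hy hF
  obtain ⟨φ, hφ⟩ := Lib.RefHull.RankOne.span_of_ne_zero hF.2.2 ht0 v
  have hφ0 : φ ≠ 0 := fun h => hv (by rw [← hφ, h, zero_smul])
  rw [Lib.RefHull.Ord.secOrd_eq hX hy hF.2.2 ht hv hφ, ← ordFrac_eq_ord hy hφ0]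
  have hinj : Function.Injective (Sheaf.gam F x.1) :=
    Lib.RefHull.Generic.toGen_injective_of_isReflexive hF.1 hF.2.1 x.1
  have hker : LinearMap.ker (Sheaf.gam F x.1) = ⊥ := LinearMap.ker_eq_bot.mpr hinj
  let E : Sheaf.Vec F ≃ₗ[X.functionField] Sheaf.Vec F := LinearEquiv.smulOfUnit (Units.mk0 φ hφ0)
  let L := LinearMap.range (Sheaf.gam F x.1)
  have hL : Cyc.PP.DetOrd.IsLattice X.functionField L := Sheaf.isLattice_range hF.1 x.1
  have hmap : L.map (E.toLinearMap.restrictScalars (X.presheaf.stalk x.1)) =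
      Submodule.span (X.presheaf.stalk x.1) (Set.range b) := by
    rw [show L = Submodule.span (X.presheaf.stalk x.1) {Sheaf.gam F x.1 t} by
      rw [← Set.image_singleton, Submodule.span_image, ht, Submodule.map_top],
      Submodule.map_span, Set.image_singleton, Module.Basis.coe_mk, Set.range_const]
    exact congrArg (fun w => Submodule.span (X.presheaf.stalk x.1) {w}) hφ
  show Sheaf.eB F b x = _
  rw [Sheaf.eB, ← hmap, Alg.e_basis_change _ hL hL E]
  have h0 : Alg.e (Sheaf.gam F x.1) L = 0 := by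
    rw [Alg.e, hker, Cyc.Retr.Idx.idx_self]
    simp
  have hr : Module.finrank X.functionField (Sheaf.Vec F) = 1 :=
    (Module.finrank_eq_card_basis b).trans (Fintype.card_punit)
  rw [h0, zero_add, show E.toLinearMap = φ • LinearMap.id from rfl, LinearMap.det_smul, hr,
    LinearMap.det_id, mul_one, pow_one]

section Det

variable [RefFun.Law X]

include hX in
theorem mul_eq (a b : RefFun.Ref1Set X) : a * b = Lib.RefHull.Group.mul hX a b :=
  Subtype.ext (by
    rw [RefFun.mul_val, ← a.2.choose_spec.1, ← b.2.choose_spec.1]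
    rfl)

theorem one_eq : (1 : RefFun.Ref1Set X) = Lib.RefHull.Group.one := Subtype.ext RefFun.one_val

include hX in
theorem inv_eq (a : RefFun.Ref1Set X) : a⁻¹ = Lib.RefHull.Group.inv hX a := by
  obtain ⟨D, hD⟩ := Lib.RefHull.Group.exists_hasDiv a
  refine (eq_inv_of_mul_eq_one_left ?_).symm
  rw [mul_eq hX, one_eq]
  exact Lib.RefHull.Group.eq_of_hasDiv hX
    (Lib.RefHull.Group.hasDiv_mul hX (Lib.RefHull.Group.hasDiv_inv hX hD) hD)
    (Lib.RefHull.Group.hasDiv_one hX) fun y _ => neg_add_cancel _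

/-- a class and its determinant have the same divisor -/
def Match (dh : SGA6.Kcoh X →+ Additive (RefFun.Ref1Set X)) (η : SGA6.Kcoh X) : Prop :=
  ∃ D : Sheaf.P1 X → ℤ, Div.hom η = QuotientAddGroup.mk D ∧
    Lib.RefHull.Group.HasDiv (Additive.toMul (α := RefFun.Ref1Set X) (dh η)) (ext D)

variable {dh : SGA6.Kcoh X →+ Additive (RefFun.Ref1Set X)}

include hX in
theorem match_zero : Match dh (0 : SGA6.Kcoh X) := by
  refine ⟨0, by rw [map_zero]; rfl, ?_⟩
  rw [map_zero, toMul_zero, one_eq]
  convert Lib.RefHull.Group.hasDiv_one hX using 1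
  funext y
  unfold ext
  split_ifs <;> rfl

include hX in
theorem match_add {a b : SGA6.Kcoh X} (ha : Match dh a) (hb : Match dh b) : Match dh (a + b) := by
  obtain ⟨D, h1, h2⟩ := ha
  obtain ⟨E, h3, h4⟩ := hb
  refine ⟨D + E, by rw [map_add, h1, h3]; rfl, ?_⟩
  rw [map_add, toMul_add, mul_eq hX]
  convert Lib.RefHull.Group.hasDiv_mul hX h2 h4 using 1
  funext y
  unfold ext
  split_ifs <;> simp

include hX in
theorem match_neg {a : SGA6.Kcoh X} (ha : Match dh a) : Match dh (-a) := by
  obtain ⟨D, h1, h2⟩ := ha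
  refine ⟨-D, by rw [map_neg, h1]; rfl, ?_⟩
  rw [map_neg, toMul_neg, inv_eq hX]
  convert Lib.RefHull.Group.hasDiv_inv hX h2 using 1
  funext y
  unfold ext
  split_ifs <;> simp

variable (hdh : KDet.IsDetHat X dh)

include hX hdh in
theorem match_structure : Match dh (KDet.clc X (Coh.structureModule X)) := by
  obtain ⟨s, hs, hs0⟩ := Lib.RefHull.Group.one_section hX
  refine ⟨0, ?_, ?_⟩
  · show Div.hom (KZero.clSub _ _) = _
    rw [Div.hom_cl Lib.RefHull.Reflexive.isCoh_structure,
      c1_eq_secOrd hX Lib.RefHull.Group.isRef1_structure hs]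
    exact congrArg QuotientAddGroup.mk (funext fun x => hs0 _ (Div.coh1 x))
  · rw [hdh.map_structureSheaf, toMul_zero, one_eq]
    convert Lib.RefHull.Group.hasDiv_one hX using 1
    funext y
    unfold ext
    split_ifs <;> rfl

include hX in
theorem match_F2 (h2 : ∀ c ∈ KDet.coniv X 2, dh c = 0) {c : SGA6.Kcoh X} (hc : c ∈ KDet.coniv X 2) :
    Match dh c := by
  refine ⟨0, by rw [Div.hom_F2 hc]; rfl, ?_⟩
  rw [h2 c hc, toMul_zero, one_eq]
  convert Lib.RefHull.Group.hasDiv_one hX using 1
  funext y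
  unfold ext
  split_ifs <;> rfl

theorem mem_coniv_two {C : X.Modules} (hC : Coh.IsCoh C)
    (h : ∀ x : X, ringKrullDim (X.presheaf.stalk x) ≤ 1 → Subsingleton (C.presheaf.stalk x)) :
    KDet.clc X C ∈ KDet.coniv X 2 := by
  refine AddSubgroup.subset_closure ⟨C, hC, fun x hx => ?_, rfl⟩
  by_contra hlt
  have hle : ringKrullDim (X.presheaf.stalk x) ≤ 1 := by
    rw [ringKrullDim_stalk_eq_coheight] at hlt ⊢
    generalize Order.coheight x = n at hlt ⊢
    cases n using ENat.recTopCoe with
    | top => exact absurd le_top hlt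
    | coe n =>
      have : ¬ 2 ≤ n := fun h2 => hlt (WithBot.coe_le_coe.mpr (show (2 : ℕ∞) ≤ (n : ℕ∞) from Nat.cast_le.mpr h2))
      exact_mod_cast (show n ≤ 1 by omega)
  exact (Modules.Support.not_mem_support_iff.mpr (h x hle)) hx

include hX hdh in
theorem match_prime (y : Sheaf.P1 X) : Match dh (KDet.clc X (Cyc.closureStructureSheaf y.1)) := by
  classical
  let P : ObjectProperty X.Modules := fun M => Coh.IsCoh M
  set I := _root_.ClSub.idealMod (IntMult.ptIdeal y.1)
  let S := ClSub.Quot.idealSeq (IntMult.ptIdeal y.1)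
  have hS : S.ShortExact := ClSub.Quot.idealSeq_shortExact _
  have hO : Coh.IsCoh (Coh.structureModule X) := Lib.RefHull.Reflexive.isCoh_structure
  have hQ : Coh.IsCoh (Cyc.closureStructureSheaf y.1) :=
    Devissage.Closure.isCoh_closureStructureSheaf _
  have hI : Coh.IsCoh I := CohBasics.Closure.isCoh_kernel _ hO hQ.1
  haveI := hI.1
  haveI : Mono S.f := hS.mono_f
  have hinjI : ∀ x, Function.Injective (Modules.StalkModule.stalkMapₗ S.f x) :=
    (Modules.StalkModule.mono_iff_stalkMapₗ_injective _).1 hS.mono_f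
  have hgI : ∀ x, Function.Injective (Lib.RefHull.Generic.toGen I x) := fun x a b hab => by
    apply hinjI x
    apply Lib.RefHull.Generic.toGen_injective_of_isReflexive hO
      Lib.RefHull.Group.isRef1_structure.2.1 x
    show Lib.RefHull.Generic.toGen (Coh.structureModule X) x (RefHull.stalkMapₗ S.f x a) =
      Lib.RefHull.Generic.toGen (Coh.structureModule X) x (RefHull.stalkMapₗ S.f x b)
    exact (Lib.RefHull.Generic.toGen_stalkMap S.f x a).trans
      ((congrArg (RefHull.stalkMapₗ S.f _) hab).trans (Lib.RefHull.Generic.toGen_stalkMap S.f x b).symm)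
  let J := RefHull.ddual I
  let β := RefHull.bidualMap I
  have hJ : Coh.IsCoh J := Lib.RefHull.Reflexive.isCoh_ddual hI
  have hJr : RefHull.IsReflexive J :=
    Lib.RefHull.Reflexive.isReflexive_dual (Lib.RefHull.Reflexive.isCoh_dual hI)
  have hb := Lib.RefHull.Generic.stalkMap_bidual_bijective_genericPoint hI
  have hst := (Modules.Stalk.shortExact_iff_stalk S).mp hS (genericPoint X)
  have hsurjI : Function.Surjective (Modules.StalkModule.stalkMapₗ S.f (genericPoint X)) := by
    haveI hz : Subsingleton ((Cyc.closureStructureSheaf y.1).presheaf.stalk (genericPoint X)) :=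
      Modules.Support.not_mem_support_iff.mp (Div.tors_O _ (Div.ne_gen y)).2
    intro w
    exact ((ShortComplex.ab_exact_iff_function_exact _).mp hst.exact w).mp (hz.elim _ _)
  obtain ⟨s, hs, -⟩ := Lib.RefHull.Group.one_section hX
  obtain ⟨v₀, hv₀⟩ : ∃ v₀ : I.presheaf.stalk (genericPoint X),
      RefHull.stalkMapₗ S.f (genericPoint X) v₀ = s := hsurjI s
  have hv₀0 : v₀ ≠ 0 := fun h => hs (hv₀.symm.trans ((congrArg _ h).trans (map_zero _)))
  let w := RefHull.stalkMapₗ β (genericPoint X) v₀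
  have hw : w ≠ 0 := fun h => hv₀0 (hb.1 (h.trans (map_zero _).symm))
  have hJ1 : RefHull.IsRef1 J := by
    refine ⟨hJ, hJr, Lib.RefHull.Tensor.genInvertible_of_basis hJ
      (Lib.RefHull.Generic.toGen_injective_of_isReflexive hJ hJr) hw fun u => ?_⟩
    obtain ⟨u₀, rfl⟩ := hb.2 u
    obtain ⟨a, ha⟩ := Lib.RefHull.RankOne.span_of_ne_zero
      Lib.RefHull.Group.isRef1_structure.2.2 hs (RefHull.stalkMapₗ S.f (genericPoint X) u₀)
    refine ⟨a, ?_⟩
    have : a • v₀ = u₀ := hinjI _ ((map_smul _ a v₀).trans ((congrArg (a • ·) hv₀).trans ha))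
    show a • RefHull.stalkMapₗ β _ v₀ = _
    exact (map_smul _ a v₀).symm.trans (congrArg _ this)
  haveI : Mono β := (Modules.StalkModule.mono_iff_stalkMapₗ_injective β).2 fun x a b hab => by
    apply hgI x
    apply hb.1
    exact (Lib.RefHull.Generic.toGen_stalkMap β x a).symm.trans
      ((congrArg (Lib.RefHull.Generic.toGen J x) hab).trans (Lib.RefHull.Generic.toGen_stalkMap β x b))
  let T : ShortComplex X.Modules := ShortComplex.mk β (cokernel.π β) (cokernel.condition β)
  have hT : T.ShortExact := { exact := ShortComplex.exact_cokernel β }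
  have hC : Coh.IsCoh T.X₃ := CohBasics.Closure.isCoh_cokernel β hI.1 hJ
  have hC2 : KDet.clc X T.X₃ ∈ KDet.coniv X 2 := by
    refine mem_coniv_two hC fun x hx => subsingleton_of_forall_eq 0 fun c => ?_
    have hstx := (Modules.Stalk.shortExact_iff_stalk T).mp hT x
    obtain ⟨b, hb'⟩ : ∃ b, Modules.StalkModule.stalkMapₗ T.g x b = c := hstx.ab_surjective_g c
    obtain ⟨a, ha⟩ := Lib.RefHull.Generic.stalkMap_bidual_surjective hX hI x hx b
    rw [← hb', ← ha]
    exact ((ShortComplex.ab_exact_iff_function_exact _).mp hstx.exact).apply_apply_eq_zero a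
  have e1 : KZero.clSub P J = KZero.clSub P I + KZero.clSub P T.X₃ :=
    KRes.KSub.rel (P := P) hT hI hJ hC
  have e2 : KZero.clSub P (Coh.structureModule X) =
      KZero.clSub P I + KZero.clSub P (Cyc.closureStructureSheaf y.1) :=
    KRes.KSub.rel (P := P) hS hI hO hQ
  obtain ⟨E, hE1, -⟩ := match_structure hX hdh
  -- hom [O] = 0
  have hO0 : Div.hom (KZero.clSub P (Coh.structureModule X)) = 0 := by
    obtain ⟨s', hs', hs0⟩ := Lib.RefHull.Group.one_section hX
    rw [Div.hom_cl hO, c1_eq_secOrd hX Lib.RefHull.Group.isRef1_structure hs']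
    exact (congrArg QuotientAddGroup.mk (funext fun x => hs0 _ (Div.coh1 x))).trans (QuotientAddGroup.mk_zero _)
  have hQhom : Div.hom (KZero.clSub P (Cyc.closureStructureSheaf y.1)) =
      QuotientAddGroup.mk (fun x : Sheaf.P1 X => - Lib.RefHull.Ord.secOrd J w x.1) := by
    have h1 := congrArg Div.hom e1
    have h2 := congrArg Div.hom e2
    rw [map_add] at h1 h2
    rw [hO0] at h2
    rw [show Div.hom (KZero.clSub P T.X₃) = 0 from Div.hom_F2 hC2, add_zero,
      Div.hom_cl hJ, c1_eq_secOrd hX hJ1 hw] at h1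
    rw [← h1, add_comm] at h2
    rw [eq_neg_of_add_eq_zero_left h2.symm]
    exact (QuotientAddGroup.mk_neg _ _).symm
  refine ⟨_, hQhom, ?_⟩
  have hD : RefHull.IsReflexive (RefHull.dual I) := Lib.RefHull.Reflexive.isReflexive_dual hI
  haveI : IsIso (RefHull.bidualMap (RefHull.dual I)) := hD
  let e : RefHull.dual I ≅ RefHull.dual J := asIso (RefHull.bidualMap (RefHull.dual I))
  obtain ⟨hdJ, t, ht, htd⟩ := Lib.RefHull.DivRef.dual_spec hX hJ1 hw
  have het : Function.Bijective (RefHull.stalkMapₗ e.inv (genericPoint X)) :=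
    (Modules.StalkModule.isIso_iff_stalkMapₗ_bijective e.inv).mp inferInstance _
  have hdI : Coh.IsCoh (RefHull.dual I) := Lib.RefHull.Reflexive.isCoh_dual hI
  have hR : RefHull.IsRef1 (RefHull.dual I) := by
    refine ⟨hdI, hD, Lib.RefHull.Tensor.genInvertible_of_basis hdI
      (Lib.RefHull.Generic.toGen_injective_of_isReflexive hdI hD)
      (t := RefHull.stalkMapₗ e.inv (genericPoint X) t)
      (fun h => ht (het.1 (h.trans (map_zero _).symm))) fun u => ?_⟩
    obtain ⟨u₀, rfl⟩ := het.2 u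
    obtain ⟨a, ha⟩ := Lib.RefHull.RankOne.span_of_ne_zero hdJ.2.2 ht u₀
    exact ⟨a, by rw [← map_smul, ha]⟩
  rw [hdh.map_primeDivisor y.1 y.2 hR, toMul_ofMul]
  refine ⟨RefHull.dual J, hdJ, t, Lib.RefHull.Group.cl_eq_of_iso ⟨e.symm⟩, ht, fun z hz => ?_⟩
  rw [htd z hz, ext_apply (fun x : Sheaf.P1 X => - Lib.RefHull.Ord.secOrd J w x.1)
    ⟨z, Lib.RefHull.Ord.dim_of_coheight hz⟩]

include hX hdh in
theorem match_all (η : SGA6.Kcoh X) : Match dh η := by
  let H : AddSubgroup (SGA6.Kcoh X) :=
    { carrier := {a | Match dh a}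
      zero_mem' := match_zero hX
      add_mem' := match_add hX
      neg_mem' := match_neg hX }
  suffices h : H = ⊤ from (h ▸ AddSubgroup.mem_top η : η ∈ H)
  refine KRes.KSub.closure_eq_top fun G hG => ?_
  refine Devissage.Basic.generation _ H ⊤ (fun K hK => hK.1) (fun y _ => ?_) G ⟨hG, fun _ _ => trivial⟩
  by_cases hy : y = genericPoint X
  · subst hy
    refine ⟨Coh.structureModule X, ⟨Lib.RefHull.Reflexive.isCoh_structure, fun z _ => ?_⟩, ?_,
      match_structure hX hdh⟩
    · exact specializes_iff_mem_closure.mp (Sheaf.spec_gen z)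
    · rw [← (AssPt.Basic.unitStalkEquiv (genericPoint X)).length_eq]
      exact Module.length_eq_one_iff.mpr inferInstance
  · refine ⟨_, Devissage.Closure.cohIn_closureStructureSheaf y,
      Devissage.Closure.length_closureStructureSheaf y, ?_⟩
    by_cases h1 : ringKrullDim (X.presheaf.stalk y) = 1
    · exact match_prime hX hdh ⟨y, h1⟩
    · refine match_F2 hX hdh.map_coniv_two (mem_coniv_two
        (Devissage.Closure.isCoh_closureStructureSheaf y) fun x hx => ?_)
      refine Modules.Support.not_mem_support_iff.mp fun hs => ?_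
      have hyx : y ⤳ x := specializes_iff_mem_closure.mpr
        (Devissage.Closure.support_closureStructureSheaf y hs)
      rw [ringKrullDim_stalk_eq_coheight] at h1 hx
      have hle : Order.coheight y ≤ Order.coheight x :=
        Order.coheight_anti (Scheme.le_iff_specializes.mpr hyx)
      have h0 : Order.coheight y ≠ 0 := fun e => hy (Div.eq_gen e)
      have h1' : Order.coheight y ≠ 1 := fun e => h1 (by rw [e]; rfl)
      have hx' : Order.coheight x ≤ 1 := by exact_mod_cast hx
      have := hle.trans hx'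
      rcases lt_or_eq_of_le this with h | h
      · exact h0 (ENat.lt_one_iff_eq_zero.mp h)
      · exact h1' h

include hX hdh in
/-- the determinant of a reflexive module of rank one is its class -/
theorem dh_ref1 {F : X.Modules} (hF : RefHull.IsRef1 F) :
    dh (KDet.clc X F) = Additive.ofMul (RefFun.cls F hF) := by
  obtain ⟨v, hv, -⟩ := Lib.RefHull.RankOne.exists_basis_generic hF.2.2
  obtain ⟨D, h1, h2⟩ := match_all hX hdh (KDet.clc X F)
  rw [KDet.clc, Div.hom_cl hF.1, c1_eq_secOrd hX hF hv, QuotientAddGroup.eq] at h1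
  obtain ⟨f, hf, hfd⟩ := h1
  have hfv : f • v ≠ 0 := fun h => hv ((isUnit_iff_ne_zero.mpr hf).smul_eq_zero.mp h)
  apply Additive.toMul.injective
  rw [toMul_ofMul]
  refine Lib.RefHull.Group.eq_of_hasDiv hX h2
    (b := RefFun.cls F hF) ⟨F, hF, f • v, rfl, hfv, fun y _ => rfl⟩ fun y hy => ?_
  rw [Lib.RefHull.Ord.secOrd_smul hX hy hF hv hf, ← ordFrac_eq_ord hy hf]
  let x : Sheaf.P1 X := ⟨y, Lib.RefHull.Ord.dim_of_coheight hy⟩
  have := hfd x
  rw [Pi.add_apply, Pi.neg_apply] at this
  show ext D x.1 = _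
  rw [ext_apply, ← this]
  show _ = -Lib.RefHull.Ord.secOrd F v y + D x + Lib.RefHull.Ord.secOrd F v y
  abel

end Det

end

end Groth.Agent.H70.DetTwist
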