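import Groth.Agent.H70.DetTwist
import Groth.Agent.Lib.Modules.ProjFormula
import Groth.Agent.Lib.Snapper.Twist
import Groth.Agent.S0795

set_option autoImplicit false
set_option linter.style.haveILetI false
universe u

open CategoryTheory CategoryTheory.Limits AlgebraicGeometry Opposite Submodule
open Groth.Agent.Lib Groth.Agent.Lib.C1Coh29

namespace Groth.Agent.H70.DetTwist

noncomputable section

variable {Y : Scheme.{u}} [IsNoetherian Y] [IsIntegral Y]

/-- twist by a finite locally free module on the Grothendieck group -/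
theorem exists_tau {E : Y.Modules} (hE : FlatMod.IsFinLocFree E) :
    ∃ τ : SGA6.Kcoh Y →+ SGA6.Kcoh Y, ∀ G, Coh.IsCoh G →
      τ (KDet.clc Y G) = KDet.clc Y (CohB1.tensorMod E G) := by
  haveI := Modules.DualAdj.tensorL_preservesHomology (Modules.DualBasis.hasDBases_of_isFinLocFree hE)
  haveI := Functor.preservesFiniteLimits_of_preservesHomology (Modules.DualAdj.tensorL E)
  haveI := Functor.preservesFiniteColimits_of_preservesHomology (Modules.DualAdj.tensorL E)
  let P : ObjectProperty Y.Modules := fun M => Coh.IsCoh M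
  refine ⟨KRes.KSub.lift (P := P) (fun G => KDet.clc Y (CohB1.tensorMod E G)) fun S hS h1 h2 h3 => ?_,
    fun G hG => KRes.KSub.lift_cl (P := P) _ _ hG⟩
  exact KRes.KSub.rel (P := P) (hS.map_of_exact (Modules.DualAdj.tensorL E))
    (KVec.KcohNil.isCoh_tensor hE h1) (KVec.KcohNil.isCoh_tensor hE h2)
    (KVec.KcohNil.isCoh_tensor hE h3)

variable [RefFun.Law Y] {dh : SGA6.Kcoh Y →+ Additive (RefFun.Ref1Set Y)}

theorem dh_twist (hYn : Pi1.IsNormalScheme Y) (hdh : KDet.IsDetHat Y dh) {L : Y.Modules}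
    (hL : PicF.IsInvertible L) (hL1 : RefHull.IsRef1 L) (τ : SGA6.Kcoh Y →+ SGA6.Kcoh Y)
    (hτ : ∀ G, Coh.IsCoh G → τ (KDet.clc Y G) = KDet.clc Y (CohB1.tensorMod L G))
    (rk : SGA6.Kcoh Y →+ ℤ)
    (hrk : ∀ G' : Y.Modules, Coh.IsCoh G' → rk (KDet.clc Y G') =
        ((Module.length (Y.presheaf.stalk (genericPoint Y)) (G'.presheaf.stalk (genericPoint Y))).toNat : ℤ))
    (η : SGA6.Kcoh Y) :
    dh (τ η) = dh η + rk η • Additive.ofMul (RefFun.cls L hL1) := by
  let Δ : SGA6.Kcoh Y →+ Additive (RefFun.Ref1Set Y) :=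
    dh.comp τ - dh - (zmultiplesHom _ (Additive.ofMul (RefFun.cls L hL1))).comp rk
  suffices h : η ∈ Δ.ker by
    rw [AddMonoidHom.mem_ker] at h
    change dh (τ η) - dh η - rk η • _ = 0 at h
    rw [sub_eq_zero, sub_eq_iff_eq_add'] at h
    exact h
  suffices h : Δ.ker = ⊤ from h ▸ AddSubgroup.mem_top η
  refine KRes.KSub.closure_eq_top fun G hG => ?_
  refine Devissage.Basic.generation _ Δ.ker ⊤ (fun K hK => hK.1) (fun y _ => ?_) G ⟨hG, fun _ _ => trivial⟩
  by_cases hy : y = genericPoint Y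
  · subst hy
    have hO : Coh.IsCoh (Coh.structureModule Y) := Lib.RefHull.Reflexive.isCoh_structure
    have hl : Module.length (Y.presheaf.stalk (genericPoint Y))
        ((Coh.structureModule Y).presheaf.stalk (genericPoint Y)) = 1 := by
      rw [← (AssPt.Basic.unitStalkEquiv (genericPoint Y)).length_eq]
      exact Module.length_eq_one_iff.mpr inferInstance
    refine ⟨Coh.structureModule Y, ⟨hO, fun z _ => specializes_iff_mem_closure.mp (Sheaf.spec_gen z)⟩,
      hl, ?_⟩
    rw [AddMonoidHom.mem_ker]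
    show dh (τ (KDet.clc Y _)) - dh (KDet.clc Y _) - rk (KDet.clc Y _) • _ = 0
    rw [hτ _ hO, hrk _ hO, hl, hdh.map_structureSheaf,
      show KDet.clc Y (CohB1.tensorMod L (Coh.structureModule Y)) = KDet.clc Y L from
        Devissage.FibreGen.cl_iso (TensorMod.Basic.comm _ _ ≪≫ TensorMod.Basic.leftUnit L)
          (KVec.KcohNil.isCoh_tensor (TensorMod.LocFree.of_rank (TensorMod.LocFree.of_isInvertible hL)) hO),
      dh_ref1 hYn hdh hL1]
    simp
  · have hQ := Devissage.Closure.isCoh_closureStructureSheaf y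
    refine ⟨_, Devissage.Closure.cohIn_closureStructureSheaf y,
      Devissage.Closure.length_closureStructureSheaf y, ?_⟩
    rw [AddMonoidHom.mem_ker]
    show dh (τ (KDet.clc Y _)) - dh (KDet.clc Y _) - rk (KDet.clc Y _) • _ = 0
    have hT : Div.Tors (Cyc.closureStructureSheaf y) := Div.tors_O y hy
    haveI := Div.subsingleton_gen hT
    rw [hτ _ hQ, hrk _ hQ, Module.length_eq_zero_iff.mpr inferInstance]
    let C := CohB1.tensorMod L (Cyc.closureStructureSheaf y)
    have hC : Div.Tors C := ⟨KVec.KcohNil.isCoh_tensor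
        (TensorMod.LocFree.of_rank (TensorMod.LocFree.of_isInvertible hL)) hQ,
      Modules.Support.not_mem_support_iff.mpr
        (Snapper.Twist.exists_stalkEquiv_twist hL _ _).some.toEquiv.subsingleton⟩
    have hlen : ∀ x, Div.len C x = Div.len (Cyc.closureStructureSheaf y) x := fun x =>
      congrArg ENat.toNat (Snapper.Twist.length_twist hL _ _)
    have h1 := Div.devissage hC
    have h2 := Div.devissage hT
    simp only [hlen] at h1
    have h3 : KDet.clc Y C - KDet.clc Y (Cyc.closureStructureSheaf y) ∈ KDet.coniv Y 2 := by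
      have := AddSubgroup.sub_mem _ h1 h2
      rw [sub_sub_sub_cancel_right] at this
      exact this
    have h4 := hdh.map_coniv_two _ h3
    rw [map_sub] at h4
    rw [h4]
    simp

theorem push_twist {X : Scheme.{u}} [IsNoetherian X] (π : X ⟶ Y) [IsProper π]
    [HasInjectiveResolutions X.Modules] (N : ℕ) (gc : SGA6.Kcoh X →+ SGA6.Kcoh Y)
    (hgc : KRR.IsPushCoh π N gc) {E : Y.Modules} (hE : FlatMod.IsFinLocFree E)
    (τ : SGA6.Kcoh Y →+ SGA6.Kcoh Y)
    (hτ : ∀ G, Coh.IsCoh G → τ (KDet.clc Y G) = KDet.clc Y (CohB1.tensorMod E G))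
    {F : X.Modules} (hF : Coh.IsCoh F) :
    gc (KDet.clc X (CohB1.tensorMod ((Scheme.Modules.pullback π).obj E) F)) = τ (gc (KDet.clc X F)) := by
  have hR : ∀ i, Coh.IsCoh ((Coh.Rpush π i).obj F) := fun i => by
    haveI := hF.1
    haveI := hF.2
    exact Groth.Agent.S0795.result π F hF ⟨Modules.Support.isClosed_support F, inferInstance⟩ i
  have hT : Coh.IsCoh (CohB1.tensorMod ((Scheme.Modules.pullback π).obj E) F) :=
    KVec.KcohNil.isCoh_tensor (TensorMod.LocFree.isFinLocFree_pullback π hE) hF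
  rw [KDet.clc, hgc.2 _ hT, KDet.clc, hgc.2 _ hF, map_sum]
  refine Finset.sum_congr rfl fun i _ => ?_
  rw [map_zsmul]
  refine congrArg _ (Eq.trans ?_ (hτ _ (hR i)).symm)
  exact (Devissage.FibreGen.cl_iso (Modules.ProjFormula.higherProjIso π
    (Modules.DualBasis.hasDBases_of_isFinLocFree hE) F i) (KVec.KcohNil.isCoh_tensor hE (hR i))).symm

end

end Groth.Agent.H70.DetTwist
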