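import Mathlib.RingTheory.MvPolynomial.Homogeneous
import Mathlib.Algebra.MvPolynomial.Division
import Mathlib.RingTheory.MvPolynomial.Ideal
import Mathlib.Algebra.MvPolynomial.NoZeroDivisors
import Mathlib.RingTheory.Ideal.Quotient.Operations
import Mathlib.RingTheory.MvPolynomial.Basic
import Mathlib.LinearAlgebra.FiniteDimensional.Lemmas
import Mathlib.LinearAlgebra.Basis.VectorSpace
import Mathlib.RingTheory.Localization.FractionRing
import Mathlib.Algebra.Polynomial.Eval.Defs
import Mathlib.Algebra.Module.SpanRank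
import Mathlib.Data.Finset.Lattice.Fold
import Mathlib.Tactic.LinearCombination
import Mathlib.Tactic.FieldSimp
import Mathlib.Tactic.FinCases

/-!
# Generators of the ideal of finitely many points of the projective plane
-/

namespace Groth.Agent.H70.PointIdeal

open MvPolynomial

variable {k : Type*} [Field k]

/-- Forms of degree `n` vanishing at `Z`. -/
noncomputable def van (Z : Set (Fin 3 → k)) (n : ℕ) : Submodule k (MvPolynomial (Fin 3) k) :=
  homogeneousSubmodule (Fin 3) k n ⊓ ⨅ p ∈ Z, LinearMap.ker (aeval p).toLinearMap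

theorem mem_van {Z : Set (Fin 3 → k)} {n : ℕ} {f : MvPolynomial (Fin 3) k} :
    f ∈ van Z n ↔ f.IsHomogeneous n ∧ ∀ p ∈ Z, eval p f = 0 := by
  simp only [van, Submodule.mem_inf, mem_homogeneousSubmodule, Submodule.mem_iInf, LinearMap.mem_ker,
    AlgHom.toLinearMap_apply, aeval_eq_eval]

/-- The part of degree `n` generated by lower degrees. -/
noncomputable def low (Z : Set (Fin 3 → k)) : ℕ → Submodule k (MvPolynomial (Fin 3) k)
  | 0 => ⊥
  | n + 1 => ⨆ i : Fin 3, (van Z n).map (LinearMap.mulLeft k (X i))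

theorem mul_mem_low {Z : Set (Fin 3 → k)} {n : ℕ} (i : Fin 3) {f : MvPolynomial (Fin 3) k}
    (hf : f ∈ van Z n) : X i * f ∈ low Z (n + 1) :=
  Submodule.mem_iSup_of_mem i ⟨f, hf, rfl⟩

theorem X_mul_mem_van {Z : Set (Fin 3 → k)} {n : ℕ} (i : Fin 3) {f : MvPolynomial (Fin 3) k}
    (hf : f ∈ van Z n) : X i * f ∈ van Z (n + 1) := by
  rw [mem_van] at hf ⊢
  exact ⟨add_comm 1 n ▸ (isHomogeneous_X k i).mul hf.1, fun p hp ↦ by simp [hf.2 p hp]⟩

theorem finiteDimensional_homogeneous (σ : Type*) [Finite σ] (n : ℕ) :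
    FiniteDimensional k (homogeneousSubmodule σ k n) :=
  Module.Finite.iff_fg.mpr (homogeneousSubmodule_fg σ k n)

section Bivariate

theorem finrank_binary_le (n : ℕ) : Module.finrank k (homogeneousSubmodule (Fin 2) k n) ≤ n + 1 := by
  classical
  let v : Fin (n + 1) → MvPolynomial (Fin 2) k := fun i ↦ X 0 ^ (i : ℕ) * X 1 ^ (n - i)
  have hle : homogeneousSubmodule (Fin 2) k n ≤ Submodule.span k (Set.range v) := by
    intro f hf
    rw [mem_homogeneousSubmodule] at hf
    rw [f.as_sum]
    refine Submodule.sum_mem _ fun d hd ↦ ?_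
    have hdeg : d.degree = n := (hf.degree_eq_sum_deg_support hd).symm
    have h2 : d 0 + d 1 = n := by
      rw [← hdeg, Finsupp.degree_eq_sum, Fin.sum_univ_two]
    have e : monomial d (coeff d f) = coeff d f • v ⟨d 0, by omega⟩ := by
      simp only [v]
      rw [show n - d 0 = d 1 by omega, monomial_eq, Finsupp.prod_fintype _ _ (fun i ↦ pow_zero _),
        Fin.prod_univ_two, smul_eq_C_mul]
    rw [e]
    exact Submodule.smul_mem _ _ (Submodule.subset_span ⟨_, rfl⟩)
  have := finiteDimensional_homogeneous (k := k) (Fin 2) n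
  have : FiniteDimensional k (Submodule.span k (Set.range v)) :=
    FiniteDimensional.span_of_finite k (Set.finite_range v)
  refine (Submodule.finrank_mono hle).trans ((finrank_range_le_card v).trans ?_)
  simp

theorem finrank_lt_mul (n : ℕ) (W : Submodule k (MvPolynomial (Fin 2) k))
    (hW : W ≤ homogeneousSubmodule (Fin 2) k n) (hne : W ≠ ⊥) :
    Module.finrank k W < Module.finrank k
      ↥(W.map (LinearMap.mulLeft k (X 0 : MvPolynomial (Fin 2) k)) ⊔ W.map (LinearMap.mulLeft k (X 1))) := by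
  have := finiteDimensional_homogeneous (k := k) (Fin 2) n
  have : FiniteDimensional k W := Submodule.finiteDimensional_of_le hW
  have hinj : Function.Injective (LinearMap.mulLeft k (X 0 : MvPolynomial (Fin 2) k)) :=
    mul_right_injective₀ (X_ne_zero 0)
  rw [(Submodule.equivMapOfInjective _ hinj W).finrank_eq]
  refine Submodule.finrank_lt_finrank_of_lt (lt_of_le_not_ge le_sup_left fun hle ↦ hne ?_)
  have key : ∀ (j : ℕ), ∀ w ∈ W, ∃ w' ∈ W, X 1 ^ j * w = X 0 ^ j * w' := by
    intro j
    induction j with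
    | zero => exact fun w hw ↦ ⟨w, hw, rfl⟩
    | succ j ih =>
      intro w hw
      obtain ⟨w', hw', e⟩ := ih w hw
      obtain ⟨u, hu, e'⟩ := hle (Submodule.mem_sup_right ⟨w', hw', rfl⟩)
      simp only [LinearMap.mulLeft_apply] at e'
      exact ⟨u, hu, by rw [pow_succ', mul_assoc, e, ← mul_left_comm, ← e', pow_succ, mul_assoc]⟩
  rw [eq_bot_iff]
  intro w hw
  rw [Submodule.mem_bot]
  by_contra hw0
  obtain ⟨w', -, e⟩ := key (n + 1) w hw
  have hdvd : (X 0 : MvPolynomial (Fin 2) k) ^ (n + 1) ∣ w := by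
    refine (X_prime (i := (0 : Fin 2))).pow_dvd_of_dvd_mul_left (n + 1) (fun h ↦ ?_) ⟨w', e⟩
    have h1 := (X_prime (i := (0 : Fin 2))).dvd_of_dvd_pow h
    rw [X_dvd_X] at h1
    exact absurd h1 (by decide)
  obtain ⟨q, rfl⟩ := hdvd
  have hq : q ≠ 0 := right_ne_zero_of_mul hw0
  have h2 := (hW hw : IsHomogeneous _ n).totalDegree hw0
  rw [totalDegree_mul_of_isDomain (pow_ne_zero _ (X_ne_zero 0)) hq, totalDegree_X_pow] at h2
  omega

end Bivariate

section Infinite

variable {Z : Finset (Fin 3 → k)}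

theorem exists_avoid [Infinite k] (hZ : ∀ p ∈ Z, p ≠ 0) :
    ∃ a b : k, ∀ p ∈ Z, p 2 - (a * p 0 + b * p 1) ≠ 0 := by
  classical
  obtain ⟨a, ha⟩ := Infinite.exists_notMem_finset (Z.image fun p ↦ p 2 / p 0)
  obtain ⟨b, hb⟩ := Infinite.exists_notMem_finset (Z.image fun p ↦ (p 2 - a * p 0) / p 1)
  refine ⟨a, b, fun p hp h ↦ ?_⟩
  rcases eq_or_ne (p 1) 0 with h1 | h1
  · rcases eq_or_ne (p 0) 0 with h0 | h0
    · refine hZ p hp (funext fun i ↦ ?_)
      fin_cases i
      · exact h0
      · exact h1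
      · simpa [h0, h1] using h
    · refine ha (Finset.mem_image.mpr ⟨p, hp, ?_⟩)
      field_simp
      rw [h1] at h
      linear_combination h
  · refine hb (Finset.mem_image.mpr ⟨p, hp, ?_⟩)
    field_simp
    linear_combination h

theorem sum_le [Infinite k] (hZ : ∀ p ∈ Z, p ≠ 0) {d : ℕ}
    (hf : ∃ f ∈ van (Z : Set (Fin 3 → k)) d, f ≠ 0) (c : ℕ → ℕ)
    (g : ∀ n, Fin (c n) → MvPolynomial (Fin 3) k) (hg : ∀ n i, g n i ∈ van (Z : Set (Fin 3 → k)) n)
    (hli : ∀ n, LinearIndependent k ((low (Z : Set (Fin 3 → k)) n).mkQ ∘ g n)) (N : ℕ) :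
    ∑ n ∈ Finset.range N, c n ≤ d + 1 := by
  classical
  obtain ⟨a, b, hab⟩ := exists_avoid hZ
  let φ : MvPolynomial (Fin 3) k →ₐ[k] MvPolynomial (Fin 2) k :=
    aeval ![X 0, X 1, C a * X 0 + C b * X 1]
  let ℓ : MvPolynomial (Fin 3) k := X 2 - (C a * X 0 + C b * X 1)
  have hℓ : ℓ.IsHomogeneous 1 :=
    (isHomogeneous_X k 2).sub ((isHomogeneous_C_mul_X a 0).add (isHomogeneous_C_mul_X b 1))
  let ψ : MvPolynomial (Fin 2) k →ₐ[k] MvPolynomial (Fin 3) k := aeval ![X 0, X 1]
  have hker : ∀ P, φ P = 0 → ℓ ∣ P := by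
    intro P hP
    have h1 : (Ideal.Quotient.mkₐ k (Ideal.span {ℓ})).comp (ψ.comp φ) = Ideal.Quotient.mkₐ k (Ideal.span {ℓ}) := by
      refine algHom_ext fun i ↦ ?_
      have h2 : Ideal.Quotient.mk (Ideal.span {ℓ}) (X 2) =
          Ideal.Quotient.mk (Ideal.span {ℓ}) (C a * X 0 + C b * X 1) :=
        Ideal.Quotient.eq.mpr (Ideal.mem_span_singleton_self ℓ)
      fin_cases i <;> simp [φ, ψ, h2]
    have h3 := DFunLike.congr_fun h1 P
    simp only [AlgHom.comp_apply, hP, map_zero] at h3
    exact Ideal.mem_span_singleton.mp (Ideal.Quotient.eq_zero_iff_mem.mp h3.symm)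
  have hdiv : ∀ n, ∀ P ∈ van (Z : Set (Fin 3 → k)) (n + 1), φ P = 0 →
      ∃ w ∈ van (Z : Set (Fin 3 → k)) n, ℓ * w = P := by
    intro n P hP hφ
    obtain ⟨w, rfl⟩ := hker P hφ
    rw [mem_van] at hP
    have e : ℓ * w = ℓ * homogeneousComponent n w := by
      conv_lhs => rw [← homogeneousComponent_eq_self (p := ℓ * w) hP.1, ← sum_homogeneousComponent w,
        Finset.mul_sum, map_sum]
      rw [Finset.sum_eq_single n (fun i _ hi ↦ ?_) (fun hn ↦ ?_)]
      · exact homogeneousComponent_eq_self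
          (add_comm 1 n ▸ hℓ.mul (homogeneousComponent_isHomogeneous n w))
      · rw [homogeneousComponent_of_mem ((mem_homogeneousSubmodule _ _).mpr
          (hℓ.mul (homogeneousComponent_isHomogeneous i w))), if_neg (by omega)]
      · rw [Finset.mem_range, not_lt] at hn
        simp [homogeneousComponent_eq_zero n w (by omega)]
    refine ⟨homogeneousComponent n w, mem_van.mpr ⟨homogeneousComponent_isHomogeneous n w, fun p hp ↦ ?_⟩, e.symm⟩
    have h4 := hP.2 p hp
    rw [e, map_mul] at h4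
    refine (mul_eq_zero.mp h4).resolve_left ?_
    simpa [ℓ] using hab p hp
  have hhom : ∀ n, ∀ P ∈ van (Z : Set (Fin 3 → k)) n, (φ P).IsHomogeneous n := fun n P hP ↦ by
    have h1 := (mem_van.mp hP).1.aeval (![X 0, X 1, C a * X 0 + C b * X 1] : Fin 3 → MvPolynomial (Fin 2) k)
      (n := 1) (fun i ↦ by
        fin_cases i
        · exact isHomogeneous_X k 0
        · exact isHomogeneous_X k 1
        · exact (isHomogeneous_C_mul_X a 0).add (isHomogeneous_C_mul_X b 1))
    simpa [φ] using h1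
  let J : ℕ → Submodule k (MvPolynomial (Fin 2) k) :=
    fun n ↦ (van (Z : Set (Fin 3 → k)) n).map φ.toLinearMap
  have hJ : ∀ n, J n ≤ homogeneousSubmodule (Fin 2) k n := by
    rintro n _ ⟨P, hP, rfl⟩
    exact hhom n P hP
  have hJfd : ∀ n, FiniteDimensional k (J n) := fun n ↦
    @Submodule.finiteDimensional_of_le _ _ _ _ _ _ _ (finiteDimensional_homogeneous (Fin 2) n) (hJ n)
  let m : ℕ → Submodule k (MvPolynomial (Fin 2) k)
    | 0 => ⊥
    | n + 1 => (J n).map (LinearMap.mulLeft k (X 0)) ⊔ (J n).map (LinearMap.mulLeft k (X 1))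
  have hm : ∀ n, m n ≤ J n := by
    intro n
    cases n with
    | zero => exact bot_le
    | succ n =>
      refine sup_le ?_ ?_ <;> rintro _ ⟨_, ⟨P, hP, rfl⟩, rfl⟩
      · exact ⟨X 0 * P, X_mul_mem_van 0 hP, by simp [φ]⟩
      · exact ⟨X 1 * P, X_mul_mem_van 1 hP, by simp [φ]⟩
  have hcount : ∀ n, c n + Module.finrank k ↥(m n) ≤ Module.finrank k (J n) := by
    intro n
    have := hJfd n
    have hlin : LinearIndependent k fun i ↦ (m n).mkQ (φ (g n i)) := by
      refine Fintype.linearIndependent_iff.mpr fun s hs ↦ ?_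
      have h1 : φ (∑ i, s i • g n i) ∈ m n := by
        rw [← Submodule.Quotient.mk_eq_zero, ← Submodule.mkQ_apply]
        simpa [map_sum] using hs
      have hS : ∑ i, s i • g n i ∈ van (Z : Set (Fin 3 → k)) n :=
        Submodule.sum_mem _ fun i _ ↦ Submodule.smul_mem _ _ (hg n i)
      have h2 : ∑ i, s i • g n i ∈ low (Z : Set (Fin 3 → k)) n := by
        cases n with
        | zero =>
          have h3 : φ (∑ i, s i • g 0 i) = 0 := (Submodule.mem_bot k).mp h1
          obtain ⟨r, hr⟩ : ∃ r, ∑ i, s i • g 0 i = C r :=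
            ⟨_, (totalDegree_eq_zero_iff_eq_C.mp (Nat.le_zero.mp (mem_van.mp hS).1.totalDegree_le))⟩
          rw [hr] at h3 ⊢
          simp only [φ, aeval_C, algebraMap_eq, C_eq_zero] at h3
          simp [h3]
        | succ n =>
          obtain ⟨u, ⟨_, ⟨U, hU, rfl⟩, rfl⟩, v, ⟨_, ⟨V, hV, rfl⟩, rfl⟩, huv⟩ := Submodule.mem_sup.mp h1
          have h4 : φ (∑ i, s i • g (n + 1) i - (X 0 * U + X 1 * V)) = 0 := by
            rw [map_sub, ← huv]
            simp [φ]
          obtain ⟨w, hw, he⟩ := hdiv n _ (Submodule.sub_mem _ hS (Submodule.add_mem _ (X_mul_mem_van 0 hU) (X_mul_mem_van 1 hV))) h4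
          have h5 : ∑ i, s i • g (n + 1) i = X 2 * w - (a • (X 0 * w) + b • (X 1 * w)) + (X 0 * U + X 1 * V) := by
            rw [smul_eq_C_mul, smul_eq_C_mul]
            linear_combination -he
          rw [h5]
          refine Submodule.add_mem _ (Submodule.sub_mem _ (mul_mem_low 2 hw)
            (Submodule.add_mem _ (Submodule.smul_mem _ _ (mul_mem_low 0 hw))
              (Submodule.smul_mem _ _ (mul_mem_low 1 hw)))) ?_
          exact Submodule.add_mem _ (mul_mem_low 0 hU) (mul_mem_low 1 hV)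
      refine Fintype.linearIndependent_iff.mp (hli n) s ?_
      have h3 := (Submodule.Quotient.mk_eq_zero (low (Z : Set (Fin 3 → k)) n)).mpr h2
      rw [← Submodule.mkQ_apply, map_sum] at h3
      simpa [map_smul] using h3
    let f : ↥(J n) →ₗ[k] MvPolynomial (Fin 2) k ⧸ m n := (m n).mkQ.comp (J n).subtype
    let gJ : Fin (c n) → ↥(J n) := fun i ↦ ⟨φ (g n i), _, hg n i, rfl⟩
    have h6 : c n ≤ Module.finrank k (LinearMap.range f) := by
      have h7 : LinearIndependent k fun i ↦ (⟨f (gJ i), LinearMap.mem_range_self f _⟩ : LinearMap.range f) :=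
        LinearIndependent.of_comp (LinearMap.range f).subtype hlin
      simpa using h7.fintype_card_le_finrank
    have h8 : LinearMap.ker f = (m n).comap (J n).subtype := by
      rw [LinearMap.ker_comp, Submodule.ker_mkQ]
    have h9 := f.finrank_range_add_finrank_ker
    rw [h8, (Submodule.comapSubtypeEquivOfLe (hm n)).finrank_eq] at h9
    omega
  obtain ⟨f, hfv, hf0⟩ := hf
  have hex : ∃ e, ∃ P ∈ van (Z : Set (Fin 3 → k)) e, P ≠ 0 := ⟨d, f, hfv, hf0⟩
  let e := Nat.find hex
  have hed : e ≤ d := Nat.find_min' hex ⟨f, hfv, hf0⟩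
  have hbot : ∀ n < e, J n = ⊥ := fun n hn ↦ by
    rw [eq_bot_iff]
    rintro _ ⟨P, hP, rfl⟩
    rw [show P = 0 from of_not_not fun h0 ↦ Nat.find_min hex hn ⟨P, hP, h0⟩]
    simp
  have hJe : J e ≠ ⊥ := by
    intro hJe
    obtain ⟨P, hP, hP0⟩ := Nat.find_spec hex
    have h1 : φ P = 0 := (Submodule.mem_bot k).mp (hJe ▸ ⟨P, hP, rfl⟩)
    rcases Nat.eq_zero_or_pos e with he | he
    · obtain ⟨r, hr⟩ : ∃ r, P = C r :=
        ⟨_, totalDegree_eq_zero_iff_eq_C.mp (Nat.le_zero.mp (he ▸ (mem_van.mp hP).1.totalDegree_le))⟩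
      rw [hr] at h1
      simp only [φ, aeval_C, algebraMap_eq, C_eq_zero] at h1
      exact hP0 (by rw [hr, h1, map_zero])
    · obtain ⟨n, hn⟩ := Nat.exists_eq_add_of_le' he
      have hP' : P ∈ van (Z : Set (Fin 3 → k)) (n + 1) := hn ▸ hP
      obtain ⟨w, hw, rfl⟩ := hdiv n P hP' h1
      exact Nat.find_min hex (show n < e by omega) ⟨w, hw, fun h ↦ hP0 (by rw [h, mul_zero])⟩
  have key : ∀ n, (n < e → ∑ i ∈ Finset.range (n + 1), c i = 0) ∧
      (e ≤ n → J n ≠ ⊥ ∧ ∑ i ∈ Finset.range (n + 1), c i + n ≤ Module.finrank k (J n) + e) := by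
    intro n
    have h1 := hcount n
    have := hJfd n
    induction n with
    | zero =>
      refine ⟨fun hn ↦ ?_, fun hn ↦ ⟨(Nat.le_zero.mp hn) ▸ hJe, ?_⟩⟩
      · rw [hbot 0 hn, finrank_bot] at h1
        simp; omega
      · simp; omega
    | succ n ih =>
      obtain ⟨ih₁, ih₂⟩ := ih (hcount n) (hJfd n)
      refine ⟨fun hn ↦ ?_, fun hn ↦ ?_⟩
      · rw [hbot _ hn, finrank_bot] at h1
        rw [Finset.sum_range_succ, ih₁ (by omega)]
        omega
      · rcases Nat.lt_or_ge n e with hlt | hge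
        · refine ⟨(show e = n + 1 by omega) ▸ hJe, ?_⟩
          rw [Finset.sum_range_succ, ih₁ hlt]
          omega
        · obtain ⟨hne, hb⟩ := ih₂ hge
          have h3 := finrank_lt_mul n (J n) (hJ n) hne
          have h4 : Module.finrank k ↥(m (n + 1)) ≤ Module.finrank k (J (n + 1)) :=
            Submodule.finrank_mono (hm (n + 1))
          have h5 : Module.finrank k (J n) < Module.finrank k ↥(m (n + 1)) := h3
          refine ⟨fun hb' ↦ ?_, by rw [Finset.sum_range_succ]; omega⟩
          rw [hb', finrank_bot] at h4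
          omega
  cases N with
  | zero => simp
  | succ n =>
    rcases Nat.lt_or_ge n e with h | h
    · rw [(key n).1 h]
      omega
    · have := ((key n).2 h).2
      have h1 : Module.finrank k (J n) ≤ n + 1 :=
        (@Submodule.finrank_mono _ _ _ _ _ _ _ _ (finiteDimensional_homogeneous (Fin 2) n) (hJ n)).trans
          (finrank_binary_le n)
      omega

end Infinite

section BaseChange

open scoped Classical

variable {k : Type*} [Field k] {Z : Finset (Fin 3 → k)}

theorem finiteDimensional_van (Z : Set (Fin 3 → k)) (n : ℕ) : FiniteDimensional k (van Z n) :=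
  @Submodule.finiteDimensional_of_le _ _ _ _ _ _ _ (finiteDimensional_homogeneous (Fin 3) n) inf_le_left

theorem exists_extend {σ : Type*} {k K : Type*} [Field k] [Field K] (ι : k →+* K)
    (f : MvPolynomial σ k →ₗ[k] k) :
    ∃ F : MvPolynomial σ K →ₗ[K] K, ∀ P, F (map ι P) = ι (f P) := by
  refine ⟨(basisMonomials σ K).constr K fun e ↦ ι (f (monomial e 1)), fun P ↦ ?_⟩
  induction P using MvPolynomial.induction_on' with
  | monomial e r =>
    have e1 : monomial e r = r • monomial e (1 : k) := by rw [smul_monomial, smul_eq_mul, mul_one]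
    have e2 : monomial e (ι r) = ι r • (basisMonomials σ K) e := by
      rw [coe_basisMonomials, smul_monomial, smul_eq_mul, mul_one]
    rw [map_monomial, e2, map_smul, e1, map_smul, Module.Basis.constr_basis, smul_eq_mul, smul_eq_mul,
      map_mul]
  | add P Q hP hQ => simp only [map_add, hP, hQ]

theorem apply_mul_eq_zero {σ K : Type*} [Field K] (F : MvPolynomial σ K →ₗ[K] K)
    (x : MvPolynomial σ K) (S : Set (MvPolynomial σ K)) (h : ∀ s ∈ S, F (x * s) = 0) :
    ∀ w ∈ Submodule.span K S, F (x * w) = 0 := by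
  intro w hw
  induction hw using Submodule.span_induction with
  | mem s hs => exact h s hs
  | zero => rw [mul_zero, map_zero]
  | add a b _ _ ha hb => rw [mul_add, map_add, ha, hb, add_zero]
  | smul c a _ ha => rw [Algebra.mul_smul_comm, map_smul, ha, smul_zero]

theorem sum_le' (hZ : ∀ p ∈ Z, p ≠ 0) {d : ℕ} (hf : ∃ f ∈ van (Z : Set (Fin 3 → k)) d, f ≠ 0)
    (c : ℕ → ℕ) (g : ∀ n, Fin (c n) → MvPolynomial (Fin 3) k)
    (hg : ∀ n i, g n i ∈ van (Z : Set (Fin 3 → k)) n)
    (hli : ∀ n, LinearIndependent k ((low (Z : Set (Fin 3 → k)) n).mkQ ∘ g n)) (N : ℕ) :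
    ∑ n ∈ Finset.range N, c n ≤ d + 1 := by
  let K := FractionRing (Polynomial k)
  have hinf : Infinite K := Infinite.of_injective _ (IsFractionRing.injective (Polynomial k) K)
  let ι : k →+* K := algebraMap k K
  have hι : Function.Injective ι := ι.injective
  let Z' : Finset (Fin 3 → K) := Z.image fun p ↦ ι ∘ p
  have heval : ∀ (P : MvPolynomial (Fin 3) k) p, eval (ι ∘ p) (map ι P) = ι (eval p P) := fun P p ↦ by
    rw [eval_map, eval₂_comp]
  have hmap : ∀ n P, P ∈ van (Z : Set (Fin 3 → k)) n → map ι P ∈ van (Z' : Set (Fin 3 → K)) n := by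
    intro n P hP
    rw [mem_van] at hP ⊢
    refine ⟨hP.1.map ι, fun q hq ↦ ?_⟩
    obtain ⟨p, hp, rfl⟩ := Finset.mem_image.mp (Finset.mem_coe.mp hq)
    rw [heval, hP.2 p hp, map_zero]
  have hspan : ∀ n, van (Z' : Set (Fin 3 → K)) n ≤
      Submodule.span K (map ι '' (van (Z : Set (Fin 3 → k)) n : Set (MvPolynomial (Fin 3) k))) := by
    intro n P hP
    rw [mem_van] at hP
    let B := Module.Basis.ofVectorSpace k K
    let proj : Module.Basis.ofVectorSpaceIndex k K → MvPolynomial (Fin 3) k := fun j ↦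
      ∑ e ∈ P.support, monomial e (B.repr (coeff e P) j)
    let T := P.support.biUnion fun e ↦ (B.repr (coeff e P)).support
    have hco : ∀ j e, coeff e (proj j) = B.repr (coeff e P) j := fun j e ↦ by
      simp only [proj, coeff_sum, coeff_monomial, Finset.sum_ite_eq']
      split_ifs with h
      · rfl
      · rw [notMem_support_iff.mp h]
        simp
    have hsum : P = ∑ j ∈ T, B j • map ι (proj j) := by
      refine MvPolynomial.ext _ _ fun e ↦ ?_
      simp only [coeff_sum, coeff_smul, coeff_map, hco, smul_eq_mul]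
      rcases eq_or_ne (coeff e P) 0 with h | h
      · simp [h]
      · conv_lhs => rw [← B.linearCombination_repr (coeff e P), Finsupp.linearCombination_apply]
        rw [Finsupp.sum_of_support_subset _ (Finset.subset_biUnion_of_mem
          (fun e ↦ (B.repr (coeff e P)).support) (mem_support_iff.mpr h)) _ (by simp)]
        exact Finset.sum_congr rfl fun j _ ↦ by rw [Algebra.smul_def, mul_comm]
    have hproj : ∀ j, proj j ∈ van (Z : Set (Fin 3 → k)) n := by
      intro j
      rw [mem_van]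
      refine ⟨IsHomogeneous.sum _ _ _ fun e he ↦ isHomogeneous_monomial _ ?_, fun p hp ↦ ?_⟩
      · exact (hP.1.degree_eq_sum_deg_support he).symm
      · have h1 := congrArg (fun y : K ↦ B.repr y j) (hP.2 (ι ∘ p) (Finset.mem_image_of_mem _ hp))
        simp only [map_zero, Finsupp.coe_zero, Pi.zero_apply] at h1
        rw [← h1, eval_eq (ι ∘ p)]
        simp only [proj, map_sum, Finsupp.finsetSum_apply, eval_monomial]
        refine Finset.sum_congr rfl fun e _ ↦ ?_
        have e1 : ∏ i ∈ e.support, (ι ∘ p) i ^ e i = ι (∏ i ∈ e.support, p i ^ e i) := by simp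
        rw [e1, mul_comm (coeff e P), ← Algebra.smul_def, map_smul, Finsupp.smul_apply, smul_eq_mul,
          mul_comm]
        rfl
    rw [hsum]
    exact Submodule.sum_mem _ fun j _ ↦ Submodule.smul_mem _ _ (Submodule.subset_span ⟨_, hproj j, rfl⟩)
  refine sum_le (Z := Z') ?_ ?_ c (fun n i ↦ map ι (g n i)) (fun n i ↦ hmap n _ (hg n i)) (fun n ↦ ?_) N
  · intro q hq h0
    obtain ⟨p, hp, rfl⟩ := Finset.mem_image.mp hq
    exact hZ p hp (funext fun i ↦ hι ((congrFun h0 i).trans (map_zero ι).symm))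
  · obtain ⟨f, hfv, hf0⟩ := hf
    exact ⟨map ι f, hmap d f hfv, fun h ↦ hf0 (map_injective ι hι (h.trans (map_zero _).symm))⟩
  · obtain ⟨inv, hinv⟩ := LinearMap.exists_leftInverse_of_injective
      (Fintype.linearCombination k ((low (Z : Set (Fin 3 → k)) n).mkQ ∘ g n))
      (LinearMap.ker_eq_bot.mpr (linearIndependent_iff_injective_fintypeLinearCombination.mp (hli n)))
    let fn : Fin (c n) → MvPolynomial (Fin 3) k →ₗ[k] k := fun i ↦
      (LinearMap.proj i).comp (inv.comp (low (Z : Set (Fin 3 → k)) n).mkQ)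
    choose Fn hFn using fun i ↦ exists_extend ι (fn i)
    have hzero : ∀ i, ∀ Q ∈ low (Z' : Set (Fin 3 → K)) n, Fn i Q = 0 := by
      intro i Q hQ
      cases n with
      | zero => rw [(Submodule.mem_bot K).mp hQ, map_zero]
      | succ n =>
        have hle : low (Z' : Set (Fin 3 → K)) (n + 1) ≤ LinearMap.ker (Fn i) := by
          refine iSup_le fun l ↦ ?_
          rintro _ ⟨w, hw, rfl⟩
          refine apply_mul_eq_zero (Fn i) (X l) _ ?_ w (hspan n hw)
          rintro _ ⟨w', hw', rfl⟩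
          have h0 : (low (Z : Set (Fin 3 → k)) (n + 1)).mkQ (X l * w') = 0 :=
            (Submodule.Quotient.mk_eq_zero _).mpr (mul_mem_low l hw')
          rw [← map_X ι, ← map_mul, hFn]
          simp only [fn, LinearMap.comp_apply, h0, map_zero]
        exact hle hQ
    refine Fintype.linearIndependent_iff.mpr fun s hs i ↦ ?_
    have h1 : ∑ j, s j • map ι (g n j) ∈ low (Z' : Set (Fin 3 → K)) n := by
      rw [← Submodule.Quotient.mk_eq_zero, ← Submodule.mkQ_apply, map_sum]
      simpa [map_smul] using hs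
    have h2 := hzero i _ h1
    have h3 : ∀ j, fn i (g n j) = if i = j then 1 else 0 := fun j ↦ by
      have h4 := congrFun (LinearMap.congr_fun hinv (Pi.single j 1)) i
      simp only [LinearMap.comp_apply, Fintype.linearCombination_apply_single, one_smul,
        LinearMap.id_apply, Function.comp_apply] at h4
      show inv ((low (Z : Set (Fin 3 → k)) n).mkQ (g n j)) i = _
      rw [h4, Pi.single_apply]
    simpa [map_sum, map_smul, hFn, h3, apply_ite ι] using h2

theorem spanFinrank_le (hZ : ∀ p ∈ Z, p ≠ 0) (I : Ideal (MvPolynomial (Fin 3) k))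
    (hI : ∀ f : MvPolynomial (Fin 3) k, f ∈ I ↔
      ∀ p ∈ Z, ∀ j : ℕ, eval p (homogeneousComponent j f) = 0)
    {d : ℕ} (hf : ∃ f ∈ I, IsHomogeneous f d ∧ f ≠ 0) : Submodule.spanFinrank I ≤ d + 1 := by
  have hmem : ∀ n f, f.IsHomogeneous n → (f ∈ I ↔ f ∈ van (Z : Set (Fin 3 → k)) n) := by
    intro n f hfn
    rw [hI, mem_van]
    refine ⟨fun h ↦ ⟨hfn, fun p hp ↦ ?_⟩, fun h p hp j ↦ ?_⟩
    · simpa [homogeneousComponent_eq_self hfn] using h p hp n
    · rw [homogeneousComponent_of_mem ((mem_homogeneousSubmodule _ _).mpr hfn)]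
      split_ifs
      · exact h.2 p hp
      · simp
  have hg : ∀ n, ∃ (c : ℕ) (g : Fin c → MvPolynomial (Fin 3) k),
      (∀ i, g i ∈ van (Z : Set (Fin 3 → k)) n) ∧
      van (Z : Set (Fin 3 → k)) n ≤ Submodule.span k (Set.range g) ⊔ low (Z : Set (Fin 3 → k)) n ∧
      LinearIndependent k ((low (Z : Set (Fin 3 → k)) n).mkQ ∘ g) := by
    intro n
    have := finiteDimensional_van (Z : Set (Fin 3 → k)) n
    let Q := (van (Z : Set (Fin 3 → k)) n).map (low (Z : Set (Fin 3 → k)) n).mkQ
    let b := Module.finBasis k Q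
    choose g hg hgb using fun i ↦ (b i).2
    refine ⟨_, g, hg, fun v hv ↦ ?_, ?_⟩
    · have h1 : (low (Z : Set (Fin 3 → k)) n).mkQ v = (low (Z : Set (Fin 3 → k)) n).mkQ
          (∑ i, b.repr ⟨_, Submodule.mem_map_of_mem hv⟩ i • g i) := by
        have h0 := congrArg Subtype.val (b.sum_repr ⟨_, Submodule.mem_map_of_mem hv⟩)
        simp only [Submodule.coe_sum, Submodule.coe_smul] at h0
        simp only [map_sum, map_smul, hgb]
        exact h0.symm
      replace h1 := (Submodule.Quotient.eq _).mp h1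
      have e := Submodule.add_mem_sup (S := Submodule.span k (Set.range g))
        (Submodule.sum_mem _ (t := Finset.univ) (f := fun i ↦ b.repr ⟨_, Submodule.mem_map_of_mem hv⟩ i • g i)
          fun i _ ↦ Submodule.smul_mem _ _ (Submodule.subset_span (Set.mem_range_self i))) h1
      rwa [add_sub_cancel] at e
    · rw [show (low (Z : Set (Fin 3 → k)) n).mkQ ∘ g = Q.subtype ∘ b from funext hgb]
      exact b.linearIndependent.map' _ (Submodule.ker_subtype _)
  choose c g hgv hgs hgl using hg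
  obtain ⟨f, hfI, hfh, hf0⟩ := hf
  have hb := sum_le' hZ ⟨f, (hmem d f hfh).mp hfI, hf0⟩ c g hgv hgl
  obtain ⟨N, hN⟩ : ∃ N, ∀ n, N ≤ n → c n = 0 := by
    by_contra h
    push Not at h
    have key : ∀ t, ∃ N, t ≤ ∑ n ∈ Finset.range N, c n := by
      intro t
      induction t with
      | zero => exact ⟨0, Nat.zero_le _⟩
      | succ t ih =>
        obtain ⟨N, hN⟩ := ih
        obtain ⟨n, hn, hcn⟩ := h N
        refine ⟨n + 1, ?_⟩
        rw [Finset.sum_range_succ]
        have := Finset.sum_le_sum_of_subset (f := c) (Finset.range_mono hn)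
        omega
    obtain ⟨N, hN⟩ := key (d + 2)
    have := hb N
    omega
  let s : Finset (MvPolynomial (Fin 3) k) :=
    (Finset.range N).biUnion fun n ↦ Finset.univ.image (g n)
  have hspan : I = Ideal.span (s : Set (MvPolynomial (Fin 3) k)) := by
    refine le_antisymm ?_ (Ideal.span_le.mpr fun x hx ↦ ?_)
    · have h1 : ∀ n, ∀ v ∈ van (Z : Set (Fin 3 → k)) n, v ∈ Ideal.span (s : Set (MvPolynomial (Fin 3) k)) := by
        intro n
        induction n using Nat.strong_induction_on with
        | _ n ih =>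
          intro v hv
          have h2 : Submodule.span k (Set.range (g n)) ⊔ low (Z : Set (Fin 3 → k)) n ≤
              (Ideal.span (s : Set (MvPolynomial (Fin 3) k))).restrictScalars k := by
            refine sup_le (Submodule.span_le.mpr ?_) ?_
            · rintro _ ⟨i, rfl⟩
              refine Ideal.subset_span (Finset.mem_biUnion.mpr ⟨n, Finset.mem_range.mpr ?_,
                Finset.mem_image_of_mem _ (Finset.mem_univ i)⟩)
              by_contra hn
              exact (Fin.cast (hN n (not_lt.mp hn)) i).elim0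
            · cases n with
              | zero => exact bot_le
              | succ n =>
                refine iSup_le fun l ↦ ?_
                rintro _ ⟨w, hw, rfl⟩
                exact Ideal.mul_mem_left _ _ (ih n (Nat.lt_succ_self n) w hw)
          exact h2 (hgs n hv)
      intro x hx
      rw [← sum_homogeneousComponent x]
      refine Ideal.sum_mem _ fun j _ ↦ h1 j _ (mem_van.mpr ⟨homogeneousComponent_isHomogeneous j x, ?_⟩)
      exact fun p hp ↦ (hI x).mp hx p hp j
    · obtain ⟨n, -, hx⟩ := Finset.mem_biUnion.mp hx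
      obtain ⟨i, -, rfl⟩ := Finset.mem_image.mp hx
      exact (hmem n _ (mem_van.mp (hgv n i)).1).mpr (hgv n i)
  rw [hspan]
  refine (Submodule.spanFinrank_span_le_ncard_of_finite s.finite_toSet).trans ?_
  rw [Set.ncard_coe_finset]
  refine Finset.card_biUnion_le.trans ((Finset.sum_le_sum fun n _ ↦ ?_).trans (hb N))
  exact Finset.card_image_le.trans (by simp)

end BaseChange

end Groth.Agent.H70.PointIdeal
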